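import Cfsg.Agent.E6TwMinDeg.Maps

/-!
Counting the slices of common eigenspaces met by translations along a list of pairs of roots.
-/

set_option autoImplicit false
set_option linter.unusedSectionVars false
set_option linter.style.haveILetI false
set_option linter.unusedSimpArgs false

namespace CfsgLib.E6TwMinDeg

open Cfsg.Lie CfsgLib.Chev CfsgLib.Chev.Tab CfsgLib.E6MinDeg Module CfsgLib.MinDeg
open scoped MatrixGroups

/-- The root `y` can be moved past `r` inside `T`; the characters may be non-zero only on `N`. -/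
def okY (r : ℕ) (T N : List ℕ) (y : ℕ) : Bool :=
  decide (y < 72 ∧ (y = r ∨ y = piN r ∨ apart r y = true) ∧ (∀ z ∈ srcs r y, z ∈ T) ∧
    ∀ z ∈ quad r y, z ∈ T ∧ z ∉ N)

/-- The roots other than `x` whose characters do not change under translations by `r`. -/
def keep (r x : ℕ) (T N : List ℕ) : List ℕ :=
  T.filter fun y => okY r T N y && decide (y ≠ x ∧ ∀ z ∈ srcs r y, z ∉ N)

/-- Translating by `r` moves the character at `x`, through the one at `μ`. -/
def stepOK (r x μ : ℕ) (T N : List ℕ) : Bool :=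
  okY r T N x && decide (r < 72 ∧ x ∈ T ∧ μ ∈ T ∧ μ < 72 ∧ μ ≠ x ∧ srcs r x = [μ] ∧ rp x = x ∧ piN μ = μ ∧
    x ≠ r ∧ x ≠ piN r ∧ (piN r = r ↔ piN x = x))

/-- The roots kept by a list of translations. -/
def keepAll (N : List ℕ) : List (ℕ × ℕ) → List ℕ → List ℕ
  | [], T => T
  | p :: R, T => keepAll N R (keep p.1 p.2 T N)

/-- All steps of a list of translations apply. -/
def countOK (N : List ℕ) (μ : ℕ) : List (ℕ × ℕ) → List ℕ → Bool
  | [], _ => true
  | p :: R, T => stepOK p.1 p.2 μ T N && countOK N μ R (keep p.1 p.2 T N)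

/-- The exponent gained by a list of translations. -/
def gain : List (ℕ × ℕ) → ℕ
  | [] => 0
  | p :: R => (if piN p.1 = p.1 then 1 else 2) + gain R

/-- The roots with characters after clearing along a list of translations. -/
def killAll : List (ℕ × ℕ) → List ℕ → List ℕ → List ℕ × List ℕ
  | [], T, N => (T, N)
  | p :: R, T, N => killAll R (p.2 :: keep p.1 p.2 T N) (N.filter fun y => decide (y ≠ p.2))

/-- All steps of a clearing apply. -/
def killOK (μ : ℕ) : List (ℕ × ℕ) → List ℕ → List ℕ → Bool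
  | [], _, _ => true
  | p :: R, T, N => stepOK p.1 p.2 μ T N &&
      killOK μ R (p.2 :: keep p.1 p.2 T N) (N.filter fun y => decide (y ≠ p.2))

/-- The roots of `L` can be added one by one. -/
def extOK (Z : List ℕ) : List ℕ → List ℕ → Bool
  | [], _ => true
  | x :: L, T => decide (x < 72 ∧ x ∉ T ∧ x ∉ Z ∧ ∀ y ∈ T, y < 72 ∧
      (y = x ∨ y = piN x ∨ apart x y = true) ∧ (∀ z ∈ srcs x y, z ∈ T ∧ z ∈ Z) ∧
        ∀ z ∈ quad x y, z ∈ T ∧ z ∈ Z) && extOK Z L (x :: T)

/-- The root subgroup at `x` leaves the characters on `T` alone. -/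
def invOK (x : ℕ) (T N : List ℕ) : Bool :=
  decide (x < 72 ∧ x ∉ T) && T.all fun y => okY x T N y && decide (∀ z ∈ srcs x y, z ∉ N)

theorem sgn_ne {F : Type*} [Field F] {r x : ℕ} (hr : r < 72) (hx : x < 72) (hn : x ≠ 71 - r)
    (hs : sgnR r x ≠ 0) : (sgnR r x : F) ≠ 0 := by
  rcases term_cases hr hx hn with ⟨-, h⟩ | ⟨-, h | h, -⟩
  · exact absurd h hs
  all_goals rw [h]; simp

theorem rp_fix {z μ : ℕ} (hz : z < 72) (h : rp z = μ) (hμ : piN μ = μ) :
    z = μ ∧ ¬ piN z < z := by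
  by_cases hlt : piN z < z
  · rw [rp, if_pos hlt] at h
    obtain ⟨-, h2, -⟩ := map_spec hz
    rw [← h, h2] at hμ
    omega
  · rw [rp, if_neg hlt] at h
    exact ⟨h, hlt⟩

variable {K : Type*} [Field K] [Fintype K] {q : ℕ} (C : E6Tw.Ctx K q)
  {V : Type*} [AddCommGroup V] [Module ℂ V] [FiniteDimensional ℂ V]
  (ρ : Representation ℂ C.Z.G1 V)
include C

theorem del_eq_zero {r y : ℕ} {P : ℕ → K} (h : ∀ z ∈ srcs r y, P z = 0) (t : K) :
    del C r t P y = 0 := by
  unfold del
  by_cases same : y = r ∨ y = piN r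
  · rw [if_pos same]
  rw [if_neg same]
  obtain ⟨s1, s2⟩ := not_or.1 same
  by_cases py : piN y = y
  · rw [if_pos py]
    by_cases h0 : sgnR r y = 0
    · rw [h0]; split <;> simp
    by_cases pr : piN r = r
    · rw [if_pos pr, PP_eq_zero C (h _ (by simp [srcs, s1, s2, py, pr, h0]))]; simp
    · rw [if_neg pr, PP_eq_zero C (z := tgtR r y) (h _ (by simp [srcs, s1, s2, py, pr, h0])),
        PP_eq_zero C (z := tgtR (piN r) (tgtR r y)) (h _ (by simp [srcs, s1, s2, py, pr, h0]))]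
      simp
  rw [if_neg py]
  by_cases pr : piN r = r
  · rw [if_pos pr]
    by_cases h0 : sgnR r y = 0
    · rw [h0]; simp
    · rw [PP_eq_zero C (h _ (by simp [srcs, s1, s2, py, pr, h0]))]; simp
  rw [if_neg pr]
  have e1 : (sgnR r y : K) * t * PP C P (tgtR r y) = 0 := by
    by_cases h0 : sgnR r y = 0
    · rw [h0]; simp
    · rw [PP_eq_zero C (h _ (by simp [srcs, s1, s2, py, pr, h0]))]; simp
  have e2 : (sgnR (piN r) y : K) * ((cs r : K) * C.φ t) * PP C P (tgtR (piN r) y) = 0 := by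
    by_cases h0 : sgnR (piN r) y = 0
    · rw [h0]; simp
    · rw [PP_eq_zero C (h _ (by simp [srcs, s1, s2, py, pr, h0]))]; simp
  rw [e1, e2, add_zero]

theorem exists_del {r x μ : ℕ} {T N : List ℕ} (h : stepOK r x μ T N = true) {P : ℕ → K}
    (hne : P μ ≠ 0) (hfix : C.φ (P μ) = P μ) {d : K} (hd : piN x = x → C.φ d = d) :
    ∃ t, del C r t P x = d := by
  simp only [stepOK, okY, Bool.and_eq_true, decide_eq_true_eq] at h
  obtain ⟨⟨hx, hap, -, -⟩, hr, -, -, -, -, hs, -, hμ, n1, n2, htype⟩ := h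
  have same : ¬(x = r ∨ x = piN r) := not_or.2 ⟨n1, n2⟩
  have ha : apart r x = true := (hap.resolve_left n1).resolve_left n2
  obtain ⟨o1, -, o3, -, -⟩ := apart_spec ha
  obtain ⟨hr', -, -, hc, -⟩ := map_spec hr
  have at' : ∀ {z : ℕ}, z < 72 → rp z = μ → PP C P z = P μ := fun {z} hz e => by
    obtain ⟨rfl, hlt⟩ := rp_fix hz e hμ
    rw [PP, if_neg hlt]
  unfold del
  rw [srcs, if_neg same] at hs
  by_cases px : piN x = x
  · have pr : piN r = r := htype.2 px
    rw [if_pos px, if_pos pr] at hs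
    have h0 : sgnR r x ≠ 0 := fun e => by simp [e] at hs
    rw [if_neg h0] at hs
    have hv := at' (tgt_lt C hr hx o1 h0) (List.cons.inj hs).1
    have hs0 := sgn_ne (F := K) hr hx o1 h0
    refine ⟨θ C * (d / ((sgnR r x : K) * P μ)), ?_⟩
    rw [if_neg same, if_pos px, if_pos pr, hv, tr_θ_mul C hfix,
      tr_θ_mul C (by rw [map_div₀, map_mul, map_intCast, hfix, hd px])]
    field_simp
  have pr : piN r ≠ r := fun e => px (htype.1 e)
  rw [if_neg px, if_neg pr] at hs
  by_cases h0 : sgnR r x = 0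
  · have h1 : sgnR (piN r) x ≠ 0 := fun e => by simp [h0, e] at hs
    rw [if_pos h0, if_neg h1, List.nil_append] at hs
    have hv := at' (tgt_lt C hr' hx o3 h1) (List.cons.inj hs).1
    have hs0 := sgn_ne (F := K) hr' hx o3 h1
    have hc0 : (cs r : K) ≠ 0 := by rcases hc with e | e <;> rw [e] <;> simp
    refine ⟨C.φ (d / ((sgnR (piN r) x : K) * (cs r : K) * P μ)), ?_⟩
    rw [if_neg same, if_neg px, if_neg pr, h0, hv, φφ C, Int.cast_zero]
    field_simp
    ring
  · have h1 : sgnR (piN r) x = 0 := by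
      by_contra e
      simp [h0, e] at hs
    rw [if_neg h0, if_pos h1, List.append_nil] at hs
    have hv := at' (tgt_lt C hr hx o1 h0) (List.cons.inj hs).1
    have hs0 := sgn_ne (F := K) hr hx o1 h0
    refine ⟨d / ((sgnR r x : K) * P μ), ?_⟩
    rw [if_neg same, if_neg px, if_neg pr, h1, hv, Int.cast_zero]
    field_simp
    ring

/-- A translation gives the character at `x` any admissible value. -/
theorem hit {r x μ : ℕ} {T N : List ℕ} (h : stepOK r x μ T N = true) {P : ℕ → K}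
    (hP : ∀ y ∈ T, y ∉ N → P y = 0) (hne : P μ ≠ 0) {c : K} (hc : piN x = x → C.φ c = c) :
    dW C ρ T P ≤ dW C ρ (x :: keep r x T N) (Function.update P x c) := by
  rcases Nat.eq_zero_or_pos (dW C ρ T P) with h0 | hpos
  · rw [h0]; exact Nat.zero_le _
  have h' := h
  simp only [stepOK, okY, Bool.and_eq_true, decide_eq_true_eq] at h'
  obtain ⟨⟨hx, hxa, hxs, hxq⟩, hr, hxT, hμT, hμ72, -, hs, hxr, hμ, -⟩ := h'
  obtain ⟨t, ht⟩ := exists_del C h hne (valid C ρ hpos hμT hμ72 hμ) (d := P x - c)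
    fun px => by rw [map_sub, valid C ρ hpos hxT hx px, hc px]
  refine dW_le_of_maps C ρ (y C r t) fun v hv => ?_
  have hmem : ∀ z ∈ x :: keep r x T N, z ∈ T := fun z hz => by
    rcases List.mem_cons.1 hz with rfl | hz
    exacts [hxT, List.mem_of_mem_filter hz]
  refine W_mono C ρ (P := mv C r t P) (fun z hz => ⟨hz, ?_⟩)
    (translate C ρ (r := r) (Z := T.filter fun z => decide (z ∉ N)) ⟨hr, fun z hz => ?_⟩
      (fun z hz => hP z (List.mem_of_mem_filter hz) (by simpa using (List.mem_filter.1 hz).2))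
      hmem t hv)
  · rcases List.mem_cons.1 hz with rfl | hz
    · rw [Function.update_self, mv, ht, sub_sub_cancel]
    · simp only [keep, okY, List.mem_filter, Bool.and_eq_true, decide_eq_true_eq] at hz
      obtain ⟨hzT, ⟨-, -, hzs, -⟩, hzx, hzN⟩ := hz
      rw [Function.update_of_ne hzx, mv,
        del_eq_zero C (fun w hw => hP w (hzs w hw) (hzN w hw)), sub_zero]
  · have ok : okY r T N z = true := by
      rcases List.mem_cons.1 hz with rfl | hz
      · simp only [okY, decide_eq_true_eq]; exact ⟨hx, hxa, hxs, hxq⟩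
      · exact (Bool.and_eq_true_iff.1 (List.mem_filter.1 hz).2).1
    simp only [okY, decide_eq_true_eq] at ok
    obtain ⟨o1, o2, o3, o4⟩ := ok
    exact ⟨o1, o2, o3, fun w hw => ⟨(o4 w hw).1, List.mem_filter.2 ⟨(o4 w hw).1,
      by simpa using (o4 w hw).2⟩⟩⟩

/-- The fixed elements. -/
noncomputable def Fx : Finset K := by
  classical exact Finset.univ.filter fun a : K => C.φ a = a

theorem mem_Fx {a : K} : a ∈ Fx C ↔ C.φ a = a := by simp [Fx]

theorem card_Fx : (Fx C).card = q := by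
  classical
  rw [Fx, ← Fintype.card_subtype, ← Nat.card_eq_fintype_card]
  rw [Nat.card_congr (Equiv.subtypeEquivRight fun a => by rw [C.hφ])]
  exact card_fixed C.hq C.hK

theorem count : ∀ {R : List (ℕ × ℕ)} {T N : List ℕ} {μ : ℕ}, countOK N μ R T = true →
    ∀ {P : ℕ → K}, (∀ y ∈ T, y ∉ N → P y = 0) → P μ ≠ 0 →
    q ^ gain R * dW C ρ T P ≤ dW C ρ (keepAll N R T) P
  | [], T, N, μ, _, P, _, _ => by simp [gain, keepAll]
  | (r, x) :: R, T, N, μ, h, P, hP, hne => by
    classical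
    rw [countOK, Bool.and_eq_true] at h
    have ih := count (R := R) h.2 (P := P) (fun y hy => hP y (List.mem_of_mem_filter hy)) hne
    have hx : x ∉ keep r x T N := fun hm => by
      simp only [keep, List.mem_filter, Bool.and_eq_true, decide_eq_true_eq] at hm
      exact hm.2.2.1 rfl
    have h' := h.1
    simp only [stepOK, Bool.and_eq_true, decide_eq_true_eq] at h'
    obtain ⟨-, -, -, -, -, -, -, -, -, -, -, htype⟩ := h'
    have key : q ^ (if piN r = r then 1 else 2) * dW C ρ T P ≤ dW C ρ (keep r x T N) P := by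
      by_cases pr : piN r = r
      · have := le_trans (Finset.card_nsmul_le_sum (Fx C) _ _ fun c hc =>
          hit C ρ h.1 hP hne fun _ => (mem_Fx C).1 hc) (sum_le C ρ x _ P hx (Fx C))
        rw [smul_eq_mul, card_Fx] at this
        rw [if_pos pr, pow_one]
        exact this
      · have := le_trans (Finset.card_nsmul_le_sum Finset.univ _ _ fun c _ =>
          hit C ρ h.1 hP hne (c := c) fun px => absurd (htype.2 px) pr)
          (sum_le C ρ x _ P hx Finset.univ)
        rw [smul_eq_mul, Finset.card_univ, C.hK] at this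
        rw [if_neg pr]
        exact this
    rw [gain, keepAll, pow_add]
    calc q ^ (if piN r = r then 1 else 2) * q ^ gain R * dW C ρ T P
        = q ^ gain R * (q ^ (if piN r = r then 1 else 2) * dW C ρ T P) := by ring
      _ ≤ q ^ gain R * dW C ρ (keep r x T N) P := Nat.mul_le_mul_left _ key
      _ ≤ _ := ih

theorem count_le {R : List (ℕ × ℕ)} {T N S : List ℕ} {μ : ℕ} (h : countOK N μ R T = true)
    (hS : ∀ y ∈ S, y ∈ keepAll N R T) {P : ℕ → K} (hP : ∀ y ∈ T, y ∉ N → P y = 0)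
    (hne : P μ ≠ 0) : q ^ gain R * dW C ρ T P ≤ dW C ρ S P :=
  (count C ρ h hP hne).trans (dW_mono C ρ fun y hy => ⟨hS y hy, rfl⟩)

theorem kill : ∀ {R : List (ℕ × ℕ)} {T N : List ℕ} {μ : ℕ}, killOK μ R T N = true →
    ∀ {P : ℕ → K}, (∀ y ∈ T, y ∉ N → P y = 0) → P μ ≠ 0 → 0 < dW C ρ T P →
    ∃ P' : ℕ → K, 0 < dW C ρ (killAll R T N).1 P' ∧
      (∀ y ∈ (killAll R T N).1, y ∉ (killAll R T N).2 → P' y = 0) ∧ P' μ = P μ
  | [], T, N, μ, _, P, hP, _, hpos => ⟨P, hpos, hP, rfl⟩
  | (r, x) :: R, T, N, μ, h, P, hP, hne, hpos => by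
    rw [killOK, Bool.and_eq_true] at h
    have h' := h.1
    simp only [stepOK, Bool.and_eq_true, decide_eq_true_eq] at h'
    obtain ⟨-, -, -, -, -, hμx, -⟩ := h'
    have hle := hit C ρ h.1 hP hne (c := 0) fun _ => map_zero _
    obtain ⟨P', h1, h2, h3⟩ := kill (R := R) h.2 (P := Function.update P x 0) (fun y hy hyN => by
      rcases eq_or_ne y x with rfl | hyx
      · rw [Function.update_self]
      · rw [Function.update_of_ne hyx]
        exact hP y (List.mem_of_mem_filter ((List.mem_cons.1 hy).resolve_left hyx))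
          fun hm => hyN (List.mem_filter.2 ⟨hm, by simpa using hyx⟩))
      (by rwa [Function.update_of_ne hμx]) (lt_of_lt_of_le hpos hle)
    exact ⟨P', h1, h2, h3.trans (Function.update_of_ne hμx _ _)⟩

theorem exists_pos {x : ℕ} {T Z : List ℕ} {P : ℕ → K} (hx : x ∉ T) (hm : Mov x T T Z)
    (hs : ∀ y ∈ T, ∀ z ∈ srcs x y, z ∈ Z) (hZ : ∀ z ∈ Z, P z = 0) (hpos : 0 < dW C ρ T P) :
    ∃ a : K, 0 < dW C ρ (x :: T) (Function.update P x a) := by
  by_contra hcon
  push Not at hcon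
  rw [← sum_eq C ρ hx hm hZ fun t y hy => del_eq_zero C (fun z hz => hZ z (hs y hy z hz)) t] at hpos
  have := Finset.sum_eq_zero (f := fun a => dW C ρ (x :: T) (Function.update P x a))
    (s := Finset.univ) fun a _ => Nat.le_zero.1 (hcon a)
  omega

theorem extend : ∀ {L T Z : List ℕ}, extOK Z L T = true → ∀ {P : ℕ → K},
    (∀ z ∈ Z, P z = 0) → 0 < dW C ρ T P → ∀ {S : List ℕ}, (∀ y ∈ S, y ∈ L ∨ y ∈ T) →
    ∃ P' : ℕ → K, (∀ y ∈ T, P' y = P y) ∧ (∀ z ∈ Z, P' z = 0) ∧ 0 < dW C ρ S P'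
  | [], T, Z, _, P, hZ, hpos, S, hS => ⟨P, fun _ _ => rfl, hZ, lt_of_lt_of_le hpos
      (dW_mono C ρ fun y hy => ⟨(hS y hy).resolve_left List.not_mem_nil, rfl⟩)⟩
  | x :: L, T, Z, h, P, hZ, hpos, S, hS => by
    simp only [extOK, Bool.and_eq_true, decide_eq_true_eq] at h
    obtain ⟨⟨hx, hxT, hxZ, hall⟩, hrest⟩ := h
    obtain ⟨a, ha⟩ := exists_pos C ρ hxT (Z := Z) (P := P)
      ⟨hx, fun y hy => ⟨(hall y hy).1, (hall y hy).2.1,
        fun z hz => ((hall y hy).2.2.1 z hz).1, (hall y hy).2.2.2⟩⟩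
      (fun y hy z hz => ((hall y hy).2.2.1 z hz).2) hZ hpos
    obtain ⟨P', h1, h2, h3⟩ := extend (L := L) hrest (P := Function.update P x a) (fun z hz => by
      rw [Function.update_of_ne (fun e : z = x => hxZ (e ▸ hz)), hZ z hz]) ha (S := S) fun y hy =>
      (hS y hy).elim (fun hm => (List.mem_cons.1 hm).elim (fun e => Or.inr (e ▸ List.mem_cons_self))
        Or.inl) fun hm => Or.inr (List.mem_cons_of_mem _ hm)
    exact ⟨P', fun y hy => (h1 y (List.mem_cons_of_mem _ hy)).trans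
      (Function.update_of_ne (fun e : y = x => hxT (e ▸ hy)) _ _), h2, h3⟩

theorem sum_Fx {x : ℕ} (S : List ℕ) (P : ℕ → K) (hx : x < 72) (px : piN x = x) :
    ∑ a ∈ Fx C, dW C ρ (x :: S) (Function.update P x a) =
      ∑ a : K, dW C ρ (x :: S) (Function.update P x a) := by
  refine Finset.sum_subset (Finset.subset_univ _) fun a _ ha => ?_
  rw [mem_Fx] at ha
  by_contra h
  have := valid C ρ (Nat.pos_of_ne_zero h) List.mem_cons_self hx px
  rw [Function.update_self] at this
  exact ha this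

theorem zero_mem_Fx : (0 : K) ∈ Fx C := (mem_Fx C).2 (map_zero _)

theorem slices_ge {x : ℕ} {S : List ℕ} {P : ℕ → K} (hx : x ∉ S) {e : ℕ}
    (he : ∀ a : K, C.φ a = a → a ≠ 0 → e ≤ dW C ρ (x :: S) (Function.update P x a)) :
    dW C ρ (x :: S) (Function.update P x 0) + (q - 1) * e ≤ dW C ρ S P := by
  classical
  refine le_trans ?_ (sum_le C ρ x S P hx (Fx C))
  rw [← Finset.add_sum_erase _ _ (zero_mem_Fx C)]
  refine Nat.add_le_add_left (le_trans (le_of_eq ?_) (Finset.card_nsmul_le_sum _ _ e fun a ha =>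
    he a ((mem_Fx C).1 (Finset.mem_of_mem_erase ha)) (Finset.ne_of_mem_erase ha))) _
  rw [smul_eq_mul, Finset.card_erase_of_mem (zero_mem_Fx C), card_Fx]

theorem slices_eq {x : ℕ} {S N : List ℕ} {P : ℕ → K} (h : invOK x S N = true)
    (hP : ∀ y ∈ S, y ∉ N → P y = 0) :
    ∑ a : K, dW C ρ (x :: S) (Function.update P x a) = dW C ρ S P := by
  simp only [invOK, okY, Bool.and_eq_true, decide_eq_true_eq, List.all_eq_true] at h
  obtain ⟨⟨hx, hxS⟩, hall⟩ := h
  refine sum_eq C ρ hxS (Z := S.filter fun z => decide (z ∉ N))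
    ⟨hx, fun y hy => ?_⟩
    (fun z hz => hP z (List.mem_of_mem_filter hz) (by simpa using (List.mem_filter.1 hz).2))
    fun t y hy => del_eq_zero C (fun z hz => hP z ((hall y hy).1.2.2.1 z hz) ((hall y hy).2 z hz)) t
  obtain ⟨⟨o1, o2, o3, o4⟩, -⟩ := hall y hy
  exact ⟨o1, o2, o3, fun w hw => ⟨(o4 w hw).1, List.mem_filter.2 ⟨(o4 w hw).1,
    by simpa using (o4 w hw).2⟩⟩⟩

end CfsgLib.E6TwMinDeg
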