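import Cfsg.Agent.E6TwMinDeg.Count

/-!
The lists of roots of the count for `²E₆(q)` and the facts about them.
-/

set_option autoImplicit false
set_option maxRecDepth 10000

namespace CfsgLib.E6TwMinDeg

open CfsgLib.E6MinDeg

/-- The roots of the radical without the highest one, one for each orbit. -/
def QR : List ℕ := [46, 47, 48, 49, 51, 52, 53, 54, 55, 63, 65, 66, 69, 70]

/-- The roots of the radical, one for each orbit. -/
def QZ : List ℕ := 71 :: QR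

/-- The remaining positive roots, one for each orbit. -/
def UL : List ℕ := [36, 37, 38, 39, 40, 41, 44, 45, 60]

/-- All positive roots, one for each orbit. -/
def AU : List ℕ := QZ ++ UL

/-- The roots adjacent to the second highest one, and the two highest ones. -/
def SY : List ℕ := [71, 70, 69, 66, 65, 55, 54, 53]

/-- All positive roots except three long ones. -/
def SB : List ℕ := AU.filter fun x => decide (x ≠ 46 ∧ x ≠ 47 ∧ x ≠ 39)

/-- Roots of the radical paired off into the highest one. -/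
def topR : List (ℕ × ℕ) := [(46, 70), (47, 69), (51, 65), (53, 63), (50, 66), (62, 54), (61, 55)]

/-- The first roots of `topR`. -/
def topA : List ℕ := [70, 69, 65, 63, 66, 54, 55]

/-- The pairs reaching the second highest root. -/
def adjR : List (ℕ × ℕ) := [(39, 69), (43, 66), (44, 65), (58, 55), (59, 54), (60, 53)]

theorem chk_top : extOK [] topA [71] = true ∧
    countOK (71 :: topA) 71 topR (71 :: topA) = true ∧
    (∀ y ∈ [71], y ∈ keepAll (71 :: topA) topR (71 :: topA)) ∧ gain topR = 10 ∧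
    countOK [71] 71 [(46, 70)] [71, 70] = true ∧
    (∀ y ∈ [71], y ∈ keepAll [71] [(46, 70)] [71, 70]) ∧ gain [(46, 70)] = 1 ∧
    extOK [] [70] [71] = true ∧ killOK 71 [(46, 70)] [70, 71] [70, 71] = true ∧
    killAll [(46, 70)] [70, 71] [70, 71] = ([70, 71], [71]) ∧
    invOK 70 [71] [] = true ∧ invOK 71 [70] [] = true ∧
    WordOK [0] [71] [70] 99 99 ∧ WordOK [0] [70] [71] 99 99 ∧
    T6.cart 1 71 = 1 ∧ T6.cart 1 70 = -1 := by decide +kernel

theorem chk_adj : extOK [71] (QR.filter fun x => decide (x ≠ 70)) [70, 71] = true ∧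
    killOK 70 adjR QZ QR = true ∧
    (∀ y ∈ SY, y ∈ (killAll adjR QZ QR).1 ∧ (y = 70 ∨ y ∉ (killAll adjR QZ QR).2)) ∧
    countOK [70] 70 adjR SY = true ∧ (∀ y ∈ [71, 70], y ∈ keepAll [70] adjR SY) ∧ gain adjR = 9 ∧
    extOK [71] (QR.filter fun x => decide (x ∉ SY)) SY = true ∧
    (∀ y ∈ QZ, y ∈ QR.filter (fun x => decide (x ∉ SY)) ∨ y ∈ SY) := by decide +kernel

/-- The steps `(r, y, z)` showing that the character at `z` vanishes. -/
def steps : List (ℕ × ℕ × ℕ) :=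
  [(14, 49, 47), (14, 52, 48), (14, 63, 49), (15, 52, 51), (11, 63, 46), (15, 63, 52), (36, 52, 63)]

/-- The roots known to carry zero during the steps. -/
def known : List ℕ := [71, 69, 66, 65, 55, 54, 53]

/-- A step applies when the roots in `Kn` carry zero. -/
def lineOK (Kn : List ℕ) (p : ℕ × ℕ × ℕ) : Bool :=
  let N := QZ.filter fun x => decide (x ∉ Kn)
  decide (p.1 < 72 ∧ p.2.1 ∈ QZ ∧ p.2.2 ∈ QZ ∧
    (∀ x ∈ SY, okY p.1 QZ N x = true ∧ ∀ z ∈ srcs p.1 x, z ∈ Kn) ∧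
    okY p.1 QZ N p.2.1 = true ∧ ∀ z ∈ srcs p.1 p.2.1, z = p.2.2 ∨ z ∈ Kn) &&
  if piN p.1 = p.1 then stepOK p.1 p.2.1 p.2.2 QZ N
  else decide (p.2.1 ≠ p.1 ∧ p.2.1 ≠ piN p.1 ∧ (srcs p.1 p.2.1).head? = some p.2.2 ∧
    (piN p.2.1 ≠ p.2.1 → srcs p.1 p.2.1 = [p.2.2]) ∧
    (piN p.2.1 = p.2.1 → (srcs p.1 p.2.1).tail.all fun z => decide (z ∈ Kn)))

/-- All steps apply one after the other. -/
def linesOK : List (ℕ × ℕ × ℕ) → List ℕ → Bool
  | [], Kn => decide (∀ x ∈ QZ, x = 70 ∨ x ∈ Kn)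
  | p :: L, Kn => lineOK Kn p && linesOK L (p.2.2 :: Kn)

theorem chk_lines : linesOK steps known = true := by decide +kernel

theorem chk_known : ∀ x ∈ known, x ∈ SY ∧ x ≠ 70 := by decide +kernel

/-- The long roots of the radical with a word from the second highest one, the pairs reaching them
and the exponent gained. -/
def cells : List (ℕ × List (Fin 4) × List (ℕ × ℕ) × ℕ) :=
  [(70, [], adjR, 9),
   (69, [1], [(42, 66), (44, 63), (57, 55), (59, 52), (60, 51)], 8),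
   (65, [2, 1], [(39, 63), (56, 54), (58, 49), (60, 47)], 6),
   (63, [1, 2, 1], [(56, 52), (57, 49), (60, 46)], 5),
   (53, [3, 2, 1], [(39, 51), (43, 48), (44, 47)], 4),
   (51, [3, 1, 2, 1], [(42, 48), (44, 46)], 3),
   (47, [2, 3, 1, 2, 1], [(39, 46)], 1),
   (46, [1, 2, 3, 1, 2, 1], [], 0)]

/-- A cell applies below the roots `hi`. -/
def cellOK (hi : List ℕ) (c : ℕ × List (Fin 4) × List (ℕ × ℕ) × ℕ) : Bool :=
  decide (c.1 < 72 ∧ c.1 ∉ hi ∧ piN (wR (flatW c.2.1) 70) = wR (flatW c.2.1) 70 ∧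
    piN c.1 = c.1 ∧ WordOK c.2.1 QZ QZ 70 c.1 ∧ gain c.2.2.1 = c.2.2.2 ∧
    ∀ y ∈ c.1 :: hi, y ∈ keepAll [c.1] c.2.2.1 QZ) && countOK [c.1] c.1 c.2.2.1 QZ

/-- All cells apply one after the other. -/
def cellsOK : List (ℕ × List (Fin 4) × List (ℕ × ℕ) × ℕ) → List ℕ → Bool
  | [], hi => decide (∀ y ∈ hi, y ∈ QZ)
  | c :: L, hi => cellOK hi c && cellsOK L (c.1 :: hi)

theorem chk_cells : cellsOK cells [71] = true := by decide +kernel

theorem chk_back : WordOK [1, 2, 1, 3, 2, 1] QZ QZ 46 70 ∧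
    piN (wR (flatW [1, 2, 1, 3, 2, 1]) 46) = wR (flatW [1, 2, 1, 3, 2, 1]) 46 := by decide +kernel

/-- Pairs whose commutators give the remaining positive roots. -/
def phases : List (ℕ × ℕ) :=
  [(34, 38), (35, 38), (36, 37), (33, 41), (33, 45), (29, 45), (35, 45), (42, 41)]

/-- The root subgroup at `r` preserves the lowest line. -/
def stabOK (r : ℕ) : Bool :=
  decide (r < 72 ∧ ∀ y ∈ QZ, okY r QZ [46] y = true ∧ 46 ∉ srcs r y)

theorem chk_phase :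
    (∀ p ∈ phases, stabOK p.1 = true ∧ stabOK p.2 = true ∧ apart p.1 p.2 = true ∧
      piN p.1 ≠ p.1 ∧ piN p.2 ≠ p.2 ∧ sgnR p.1 p.2 ≠ 0) ∧
    (∀ z ∈ UL, z = 60 ∨ ∃ p ∈ phases, rp (tgtR p.1 p.2) = z) ∧
    stabOK 36 = true ∧ stabOK 44 = true ∧ apart 36 44 = true ∧ piN 36 ≠ 36 ∧ piN 44 = 44 ∧
    sgnR 36 44 ≠ 0 ∧ rp (tgtR 36 44) = 45 ∧ tgtR (piN 36) (tgtR 36 44) = 60 ∧
    piN 60 = 60 ∧ sgnR (piN 36) (tgtR 36 44) ≠ 0 ∧ piN 36 ≠ 71 - tgtR 36 44 ∧
    tgtR 36 44 ≠ 71 - piN 36 := by decide +kernel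

theorem chk_sl :
    stepOK 46 39 47 (39 :: 47 :: SB) [39, 47] = true ∧
    stepOK 39 46 47 (46 :: 47 :: SB) [46, 47] = true ∧
    (∀ y ∈ 47 :: SB, y ∈ keep 46 39 (39 :: 47 :: SB) [39, 47] ∧
      y ∈ keep 39 46 (46 :: 47 :: SB) [46, 47]) ∧
    invOK 39 (47 :: SB) [47] = true ∧ invOK 46 (47 :: SB) [47] = true ∧
    invOK 39 (47 :: SB) [] = true ∧ invOK 46 (47 :: SB) [] = true ∧
    invOK 39 (46 :: 47 :: SB) [] = true ∧
    WordOK [0] (39 :: 47 :: SB) (39 :: 47 :: SB) 39 47 ∧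
    piN (wR (flatW [0]) 39) = wR (flatW [0]) 39 ∧
    WordOK [1] (46 :: 47 :: SB) (46 :: 47 :: SB) 46 47 ∧
    piN (wR (flatW [1]) 46) = wR (flatW [1]) 46 ∧
    WordOK [1] (46 :: 47 :: SB) (46 :: 47 :: SB) 47 46 ∧
    piN (wR (flatW [1]) 47) = wR (flatW [1]) 47 ∧
    T6.cart 1 39 = -1 ∧ T6.cart 1 47 = 1 ∧ (∀ x ∈ 39 :: 46 :: 47 :: SB, x < 72) ∧
    (∀ y, y ∈ 39 :: 46 :: 47 :: SB ↔ y ∈ AU) ∧ 46 ∉ 39 :: 47 :: SB ∧ 39 ∉ 46 :: 47 :: SB := by
  refine ⟨?_, ?_, ?_, ?_, ?_, ?_, ?_, ?_, ?_, ?_, ?_, ?_, ?_, ?_, ?_, ?_, ?_, fun y =>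
    ⟨fun h => (by decide +kernel : ∀ z ∈ 39 :: 46 :: 47 :: SB, z ∈ AU) y h,
      fun h => (by decide +kernel : ∀ z ∈ AU, z ∈ 39 :: 46 :: 47 :: SB) y h⟩, ?_, ?_⟩
  all_goals decide +kernel

/-- A level of the Levi factor. -/
def lvlOK (L : List (Fin 4)) (top : ℕ) (base ext : List ℕ) (R : List (ℕ × ℕ)) (w : ℕ) : Bool :=
  decide (top < 72 ∧ top ∉ base ∧ top ∉ ext ∧ piN (wR (flatW L) 39) = wR (flatW L) 39 ∧
    WordOK L AU (top :: base) 39 top ∧ gain R = w ∧ (∀ y ∈ base, y ∉ ext) ∧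
    ∀ y ∈ top :: base, y ∈ keepAll (top :: ext) R (ext ++ top :: base)) &&
  extOK base ext (top :: base) && countOK (top :: ext) top R (ext ++ top :: base)

theorem chk_levels : lvlOK [3, 2] 60 QZ [45, 41] [(56, 45), (57, 41)] 4 = true ∧
    lvlOK [2] 44 (60 :: QZ) [40] [(42, 40)] 2 = true ∧
    lvlOK [] 39 (44 :: 60 :: QZ) [] [] 0 = true := by decide +kernel

end CfsgLib.E6TwMinDeg
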