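import Cfsg.Agent.E6TwMinDeg.Main
import Cfsg.Agent.Char.Central

/-!
The two values just below the bound do not divide the order of the group.
-/

set_option autoImplicit false
set_option maxRecDepth 4000

namespace CfsgLib.E6TwMinDeg

/-- The order of the universal group. -/
def ord (q : ℕ) : ℕ :=
  q ^ 36 * ((q ^ 2 - 1) * (q ^ 5 + 1) * (q ^ 6 - 1) * (q ^ 8 - 1) * (q ^ 9 + 1) * (q ^ 12 - 1))

theorem chk_small : ∀ q ∈ List.range 50, 2 ≤ q →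
    ¬ bnd q - 1 ∣ ord q ∧ ¬ bnd q - 2 ∣ ord q := by decide +kernel

/-- The product of the factors prime to `q`. -/
def pol (x : ℤ) : ℤ :=
  (x ^ 2 - 1) * (x ^ 5 + 1) * (x ^ 6 - 1) * (x ^ 8 - 1) * (x ^ 9 + 1) * (x ^ 12 - 1)

/-- The remainder for one below the bound. -/
def rem1 (x : ℤ) : ℤ :=
    (-22) * x ^ 0 + (48) * x ^ 1 + (-40) * x ^ 2 + (12) * x ^ 3 + (-6) * x ^ 4 + (17) * x ^ 5 +
    (-15) * x ^ 6 + (31) * x ^ 7 + (-47) * x ^ 8 + (29) * x ^ 9 + (1) * x ^ 10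

/-- The remainder for two below the bound. -/
def rem2 (x : ℤ) : ℤ :=
    (-83) * x ^ 0 + (168) * x ^ 1 + (-162) * x ^ 2 + (63) * x ^ 3 + (3) * x ^ 4 + (-25) * x ^ 6
    + (85) * x ^ 7 + (-134) * x ^ 8 + (112) * x ^ 9 + (-27) * x ^ 10

theorem div1 (x : ℤ) : (x ^ 11 - x ^ 8 + x ^ 7 + x ^ 5 - x ^ 4 + x - 1) ∣ pol x - rem1 x :=
  ⟨(-23) * x ^ 0 + (25) * x ^ 1 + (-14) * x ^ 2 + (-2) * x ^ 3 + (15) * x ^ 4 + (-17) * x ^ 5 +
    (8) * x ^ 6 + (5) * x ^ 7 + (-11) * x ^ 8 + (10) * x ^ 9 + (-3) * x ^ 10 + (-4) * x ^ 11 +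
    (6) * x ^ 12 + (-4) * x ^ 13 + (1) * x ^ 14 + (1) * x ^ 15 + (-3) * x ^ 16 + (3) * x ^ 17 +
    (1) * x ^ 18 + (-3) * x ^ 19 + (2) * x ^ 20 + (-1) * x ^ 22 + (2) * x ^ 23 + (-2) * x ^ 24 +
    (-1) * x ^ 27 + (1) * x ^ 28 + (-1) * x ^ 29 + (1) * x ^ 31,
    by simp only [pol, rem1]; ring⟩

theorem div2 (x : ℤ) : (x ^ 11 - x ^ 8 + x ^ 7 + x ^ 5 - x ^ 4 + x - 2) ∣ pol x - rem2 x :=
  ⟨(-42) * x ^ 0 + (63) * x ^ 1 + (-49) * x ^ 2 + (7) * x ^ 3 + (26) * x ^ 4 + (-40) * x ^ 5 +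
    (24) * x ^ 6 + (6) * x ^ 7 + (-21) * x ^ 8 + (22) * x ^ 9 + (-7) * x ^ 10 + (-5) * x ^ 11 +
    (10) * x ^ 12 + (-9) * x ^ 13 + (3) * x ^ 14 + (-5) * x ^ 16 + (5) * x ^ 17 + (-3) * x ^ 19
    + (3) * x ^ 20 + (-1) * x ^ 22 + (2) * x ^ 23 + (-2) * x ^ 24 + (-1) * x ^ 27 + (1) * x ^ 28
    + (-1) * x ^ 29 + (1) * x ^ 31,
    by simp only [pol, rem2]; ring⟩

theorem rem_bounds {q : ℕ} (hq : 50 ≤ q) :
    (0 < rem1 q ∧ rem1 q < (q : ℤ) ^ 11 - (q : ℤ) ^ 8 + (q : ℤ) ^ 7 + (q : ℤ) ^ 5 - (q : ℤ) ^ 4 + q - 1) ∧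
    (0 < - rem2 q ∧
      -(2 * rem2 q) < (q : ℤ) ^ 11 - (q : ℤ) ^ 8 + (q : ℤ) ^ 7 + (q : ℤ) ^ 5 - (q : ℤ) ^ 4 + q - 2) := by
  obtain ⟨m, rfl⟩ := Nat.exists_eq_add_of_le hq
  refine ⟨⟨?_, ?_⟩, ?_, ?_⟩
  all_goals
    rw [← sub_pos]
    simp only [rem1, rem2]
    push_cast
    ring_nf
    positivity

theorem cast_pol {q : ℕ} (hq : 1 ≤ q) :
    (((q ^ 2 - 1) * (q ^ 5 + 1) * (q ^ 6 - 1) * (q ^ 8 - 1) * (q ^ 9 + 1) * (q ^ 12 - 1) : ℕ) : ℤ) =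
      pol q := by
  have h : ∀ n : ℕ, 1 ≤ q ^ n := fun n => Nat.one_le_pow n q hq
  simp only [pol, Nat.cast_mul, Nat.cast_add, Nat.cast_sub (h _), Nat.cast_pow, Nat.cast_one]

theorem not_dvd {q : ℕ} (hq : IsPrimePow q) :
    ¬ bnd q - 1 ∣ ord q ∧ ¬ bnd q - 2 ∣ ord q := by
  have h2 := hq.two_le
  by_cases hs : q < 50
  · exact chk_small q (List.mem_range.2 hs) h2
  obtain ⟨b1, b2⟩ := rem_bounds (not_lt.1 hs)
  have hB : bnd q = q * ((q ^ 6 - q ^ 3 + 1) * (q ^ 4 + 1)) := by rw [bnd, mul_assoc]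
  set M := (q ^ 6 - q ^ 3 + 1) * (q ^ 4 + 1) with hM
  have hM1 : 1 ≤ M := Nat.one_le_iff_ne_zero.2 (by simp [hM])
  have hM2 : 2 ≤ q * M := le_trans h2 (Nat.le_mul_of_pos_right _ hM1)
  have hc := bnd_eq h2
  rw [hB] at hc
  refine ⟨fun hd => ?_, fun hd => ?_⟩
  · have hco : Nat.Coprime (bnd q - 1) (q ^ 36) := by
      refine Nat.Coprime.pow_right _ (Nat.coprime_of_dvd' fun d _ d1 d2 => ?_)
      rw [hB] at d1
      have := Nat.dvd_sub (d2.mul_right M) d1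
      rwa [show q * M - (q * M - 1) = 1 by omega] at this
    have h := Int.natCast_dvd_natCast.2 (hco.dvd_of_dvd_mul_left hd)
    rw [cast_pol (by omega), hB, Nat.cast_sub (by omega), hc, Nat.cast_one] at h
    have := Int.le_of_dvd b1.1 (by simpa using dvd_sub h (div1 (q : ℤ)))
    linarith [b1.2]
  · have h := hd
    have h4 : (q * M - 2).gcd (q ^ 36) ∣ 2 := by
      obtain ⟨p, f, hp, hf, rfl⟩ := (isPrimePow_nat_iff q).1 hq
      rcases hp.eq_two_or_odd' with rfl | hodd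
      · have hd4 : 4 ∣ 2 ^ f := by
          refine pow_dvd_pow (a := 2) (m := 2) (n := f) ?_
          by_contra hcon
          interval_cases f
          omega
        obtain ⟨a, ha⟩ := hd4
        rw [← pow_mul]
        obtain ⟨i, -, hi⟩ := (Nat.dvd_prime_pow Nat.prime_two).1
          (Nat.gcd_dvd_right (2 ^ f * M - 2) (2 ^ (f * 36)))
        rw [hi]
        refine (pow_dvd_pow (a := 2) (m := i) (n := 1) ?_).trans (by norm_num)
        by_contra hcon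
        have h4 : 4 ∣ 2 ^ f * M - 2 := by
          refine dvd_trans (pow_dvd_pow (a := 2) (m := 2) (n := i) (by omega)) ?_
          rw [← hi]
          exact Nat.gcd_dvd_left _ _
        rw [ha, mul_assoc] at h4 hM2
        omega
      · refine (Nat.dvd_one.2 ?_).trans (one_dvd 2)
        rw [← pow_mul]
        refine Nat.Coprime.pow_right _ (Nat.coprime_comm.1 ((Nat.Prime.coprime_iff_not_dvd hp).2 ?_))
        intro hd'
        have hqM : p ∣ p ^ f * M := (dvd_pow_self p hf.ne').mul_right M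
        have := Nat.dvd_sub hqM hd'
        rw [show p ^ f * M - (p ^ f * M - 2) = 2 by omega] at this
        have := (Nat.prime_dvd_prime_iff_eq hp Nat.prime_two).1 this
        rw [this] at hodd
        exact absurd hodd (by decide)
    rw [hB, ord] at h
    have h5 : q * M - 2 ∣ 2 * ((q ^ 2 - 1) * (q ^ 5 + 1) * (q ^ 6 - 1) * (q ^ 8 - 1) * (q ^ 9 + 1) *
        (q ^ 12 - 1)) :=
      (dvd_gcd_mul_iff_dvd_mul.2 h).trans (Nat.mul_dvd_mul_right h4 _)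
    have h6 := Int.natCast_dvd_natCast.2 h5
    rw [Nat.cast_mul, cast_pol (by omega), Nat.cast_sub hM2, hc] at h6
    push_cast at h6
    have h7 := dvd_sub h6 (Dvd.dvd.mul_left (div2 (q : ℤ)) 2)
    rw [show (2 : ℤ) * pol q - 2 * (pol q - rem2 q) = 2 * rem2 q by ring] at h7
    have := Int.le_of_dvd (by linarith [b2.1]) (dvd_neg.2 h7)
    linarith [b2.2]

end CfsgLib.E6TwMinDeg
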