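import Cfsg.Agent.E6MinDeg.Basic
import Cfsg.Agent.Chev.TwistedE6

/-!
The field data and the root elements of `²E₆(q)` inside `E₆(q²)`: to every root belongs a
homomorphism from the larger field, through the trace for the fixed roots.
-/

set_option autoImplicit false
set_option linter.unusedSectionVars false
set_option linter.style.haveILetI false

namespace CfsgLib.E6TwMinDeg

open Cfsg.Lie CfsgLib.Chev CfsgLib.Chev.Tab CfsgLib.E6MinDeg
open scoped MatrixGroups

/-- The partner of a root. -/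
def piN (r : ℕ) : ℕ := (mapAt graphMapE6 r).1

/-- The sign of a root under the graph automorphism. -/
def cs (r : ℕ) : ℤ := (mapAt graphMapE6 r).2.1

theorem chk_map : ∀ r ∈ List.range 72, piN r < 72 ∧ piN (piN r) = r ∧ cs (piN r) = cs r ∧
    (cs r = 1 ∨ cs r = -1) ∧ (piN r = r → cs r = 1) ∧ (mapAt graphMapE6 r).2.2 = 1 ∧
    piN r ≠ 71 - r ∧ sgnR r (piN r) = 0 ∧ (36 ≤ r → 36 ≤ piN r) := by
  decide +kernel

theorem map_spec {r : ℕ} (hr : r < 72) : piN r < 72 ∧ piN (piN r) = r ∧ cs (piN r) = cs r ∧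
    (cs r = 1 ∨ cs r = -1) ∧ (piN r = r → cs r = 1) ∧ (mapAt graphMapE6 r).2.2 = 1 ∧
    piN r ≠ 71 - r ∧ sgnR r (piN r) = 0 ∧ (36 ≤ r → 36 ≤ piN r) :=
  chk_map r (List.mem_range.2 hr)

variable {K : Type*} [Field K] [Fintype K] {q : ℕ} (C : E6Tw.Ctx K q)
include C

theorem φφ (x : K) : C.φ (C.φ x) = x := by rw [C.hφ, C.hφ, C.pow_qq]

/-- The trace. -/
def tr : K →+ K := AddMonoidHom.id K + C.φ.toAddMonoidHom

theorem tr_apply (x : K) : tr C x = x + C.φ x := rfl

theorem φ_tr (x : K) : C.φ (tr C x) = tr C x := by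
  rw [tr_apply, map_add, φφ C]; ring

theorem exists_theta : ∃ θ : K, θ + C.φ θ = 1 := by
  suffices h : ∃ x : K, x + C.φ x ≠ 0 by
    obtain ⟨x, hx⟩ := h
    refine ⟨x / (x + C.φ x), ?_⟩
    rw [map_div₀, map_add, φφ C, add_comm (C.φ x) x]
    field_simp
  by_contra hc
  push Not at hc
  have h1 : (1 : K) + 1 = 0 := by
    have := hc 1
    rwa [map_one] at this
  have h2 : ∀ x : K, x ^ q = x := fun x => by
    have := hc x
    rw [C.hφ] at this
    linear_combination this - x * h1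
  have h3 := card_fixed C.hq C.hK
  rw [Nat.card_congr (Equiv.subtypeUnivEquiv h2), Nat.card_eq_fintype_card, C.hK] at h3
  have := C.hq.two_le
  nlinarith

/-- An element of trace one. -/
noncomputable def θ : K := (exists_theta C).choose

theorem θ_spec : θ C + C.φ (θ C) = 1 := (exists_theta C).choose_spec

theorem tr_θ_mul {v : K} (hv : C.φ v = v) : tr C (θ C * v) = v := by
  rw [tr_apply, map_mul, hv, ← add_mul, θ_spec C, one_mul]

theorem exists_char : ∃ ψ : AddChar K ℂ, ψ.IsPrimitive ∧ ∀ x, ψ (C.φ x) = ψ x := by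
  obtain ⟨ψ₀, hψ₀⟩ := MinDeg.exists_primitive K
  obtain ⟨c, hc⟩ : ∃ c : K, ψ₀ c ≠ 1 := by
    by_contra h
    push Not at h
    refine hψ₀ (a := 1) one_ne_zero ?_
    ext y
    simp [AddChar.mulShift_apply, h y]
  refine ⟨(ψ₀.mulShift c).compAddMonoidHom (tr C), ?_, fun x => ?_⟩
  · refine AddChar.IsPrimitive.of_ne_one fun h => hc ?_
    have h' := DFunLike.congr_fun h (θ C)
    rw [AddChar.compAddMonoidHom_apply, AddChar.mulShift_apply, tr_apply, θ_spec C, mul_one] at h'
    simpa using h'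
  · show ψ₀.mulShift c (tr C (C.φ x)) = ψ₀.mulShift c (tr C x)
    rw [tr_apply, tr_apply, φφ C, add_comm]

/-- The additive character. -/
noncomputable def Ψ : AddChar K ℂ := (exists_char C).choose

theorem Ψ_prim : (Ψ C).IsPrimitive := (exists_char C).choose_spec.1

theorem Ψ_φ (x : K) : Ψ C (C.φ x) = Ψ C x := (exists_char C).choose_spec.2 x

/-! ### Root elements -/

/-- The ambient root element of an orbit of roots. -/
noncomputable def yA (r : ℕ) (t : K) : chevE6.group K :=
  if piN r = r then xg r (t + C.φ t) else xg r t * xg (piN r) ((cs r : K) * C.φ t)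

theorem yA_long {r : ℕ} (h : piN r = r) (t : K) : yA C r t = xg r (t + C.φ t) := if_pos h

theorem yA_short {r : ℕ} (h : piN r ≠ r) (t : K) :
    yA C r t = xg r t * xg (piN r) ((cs r : K) * C.φ t) := if_neg h

theorem yA_add {r : ℕ} (hr : r < 72) (t u : K) : yA C r t * yA C r u = yA C r (t + u) := by
  obtain ⟨h1, -, -, -, -, -, h6, h7, -⟩ := map_spec hr
  by_cases h : piN r = r
  · rw [yA_long C h, yA_long C h, yA_long C h, xg_add, map_add]
    congr 1; ring
  · rw [yA_short C h, yA_short C h, yA_short C h, map_add, mul_add, ← xg_add r t u, ← xg_add (piN r)]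
    rw [mul_assoc (xg r t), ← mul_assoc (xg (piN r) ((cs r : K) * C.φ t)),
      xg_comm hr h1 h6 h7 u ((cs r : K) * C.φ t)]
    simp only [mul_assoc]

theorem A_xg {r : ℕ} (hr : r < 72) (t : K) :
    C.Φ.A ((xg r t : chevE6.group K) : GL chevE6.Idx K) =
      (xg (piN r) ((cs r : K) * C.φ t) : chevE6.group K) := by
  rw [coe_xg, coe_xg]
  refine (C.Φ.A_x ⟨r, hr⟩ t).trans ?_
  rw [C.hf, C.hπ]
  show good_E6.full.x (piN r) _ = _
  congr 1
  obtain ⟨-, -, -, hc, -, h5, -⟩ := map_spec hr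
  show C.φ ((cs r : K) * t ^ (mapAt graphMapE6 r).2.2) = _
  rw [h5, pow_one, map_mul, map_intCast]

theorem yA_fix {r : ℕ} (hr : r < 72) (t : K) : (yA C r t : GL chevE6.Idx K) ∈ C.Φ.Fix := by
  refine ⟨(yA C r t).2, ?_⟩
  obtain ⟨h1, h2, h3, hc, h4, -, h6, h7, -⟩ := map_spec hr
  by_cases h : piN r = r
  · rw [yA_long C h, A_xg C hr, h, h4 h, Int.cast_one, one_mul, map_add, φφ C, add_comm]
  · rw [yA_short C h]
    show C.Φ.A ((xg r t : chevE6.group K).1 * (xg (piN r) ((cs r : K) * C.φ t) : chevE6.group K).1) = _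
    rw [C.Φ.A_mul (xg r t).2 (xg (piN r) _).2, A_xg C hr, A_xg C h1, h2, h3, map_mul, map_intCast,
      φφ C, ← mul_assoc, ← Int.cast_mul, show cs r * cs r = 1 by rcases hc with e | e <;> rw [e] <;> rfl,
      Int.cast_one, one_mul]
    exact congrArg Subtype.val (xg_comm hr h1 h6 h7 t ((cs r : K) * C.φ t))

theorem yA_mem {r : ℕ} (hr : r < 72) (t : K) : (yA C r t : GL chevE6.Idx K) ∈ C.Z.G1 := by
  classical
  obtain ⟨L, -, hneg⟩ := C.Z.exists_longest_red
  have pos : ∀ s : Fin chevE6.nroots, IsPos chevE6 s.val ↔ 36 ≤ s.val := fun s => by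
    have : chevE6.nroots = 72 := rfl
    exact ⟨fun h => by have := h.2; omega, fun h => ⟨s.isLt, by omega⟩⟩
  obtain ⟨h1, h2, -, -, -, -, -, -, h8⟩ := map_spec hr
  have inU : ∀ {g : GL chevE6.Idx K}, g ∈ C.Φ.Fix →
      g ∈ good_E6.US K {s | IsPos chevE6 s} → g ∈ C.Z.G1 := fun hg hU =>
    C.Z.U1_le ⟨hg, by rw [good_E6.posUnipotent_eq]; exact hU⟩
  have mem2 : ∀ {S : Set ℕ}, r ∈ S → piN r ∈ S →
      (yA C r t : GL chevE6.Idx K) ∈ good_E6.US K S := fun {S} hS hS' => by
    by_cases h : piN r = r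
    · rw [yA_long C h]; exact good_E6.x_mem_US hS _
    · rw [yA_short C h]; exact mul_mem (good_E6.x_mem_US hS _) (good_E6.x_mem_US hS' _)
  by_cases hp : 36 ≤ r
  · exact inU (yA_fix C hr t) (mem2 ((pos ⟨r, hr⟩).2 hp) ((pos ⟨piN r, h1⟩).2 (h8 hp)))
  have hflip : ∀ s : Fin chevE6.nroots, ¬ IsPos chevE6 s.val →
      IsPos chevE6 (C.Z.pwT L s).val := by
    intro s hs
    by_contra hcon
    let P := Finset.univ.filter fun a : Fin chevE6.nroots => IsPos chevE6 a.val
    have hcard : P.card = 36 := by decide +kernel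
    have hsub : insert (C.Z.pwT L s) (P.image (C.Z.pwT L)) ⊆ Finset.univ \ P := by
      intro a ha
      rcases Finset.mem_insert.1 ha with rfl | ha
      · simpa [P] using hcon
      · obtain ⟨b, hb, rfl⟩ := Finset.mem_image.1 ha
        simpa [P] using hneg b (by simpa [P] using hb)
    have hnot : C.Z.pwT L s ∉ P.image (C.Z.pwT L) := fun hmem => by
      obtain ⟨b, hb, e⟩ := Finset.mem_image.1 hmem
      exact hs ((C.Z.pwT L).injective e ▸ (Finset.mem_filter.1 hb).2)
    have := Finset.card_le_card hsub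
    rw [Finset.card_insert_of_notMem hnot, Finset.card_image_of_injective _ (C.Z.pwT L).injective,
      Finset.card_univ_diff, Fintype.card_fin, hcard, show chevE6.nroots = 72 from rfl] at this
    omega
  have hp' : ¬ 36 ≤ piN r := fun h => hp (h2 ▸ (map_spec h1).2.2.2.2.2.2.2.2 h)
  have hn : C.Z.nT L ∈ C.Z.G1 := C.Z.nT_mem L
  have key : C.Z.nT L * (yA C r t : GL chevE6.Idx K) * (C.Z.nT L)⁻¹ ∈ C.Z.G1 := by
    refine inU (C.Z.fix_conj (C.Z.le_fix hn) (yA_fix C hr t)) ?_
    refine good_E6.conj_x_act (C.Z.nT_act L) (S := {s | s = r ∨ s = piN r}) (fun s hs => ?_)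
      (mem2 (Or.inl rfl) (Or.inr rfl))
    have hlt : s < chevE6.nroots := by
      rcases hs with rfl | rfl
      exacts [hr, h1]
    refine ⟨hlt, hflip ⟨s, hlt⟩ fun h => ?_⟩
    rcases hs with rfl | rfl
    · exact hp ((pos ⟨_, hlt⟩).1 h)
    · exact hp' ((pos ⟨_, hlt⟩).1 h)
  have := mul_mem (mul_mem (inv_mem hn) key) hn
  rwa [show (C.Z.nT L)⁻¹ * (C.Z.nT L * (yA C r t : GL chevE6.Idx K) * (C.Z.nT L)⁻¹) * C.Z.nT L =
    (yA C r t : GL chevE6.Idx K) by group] at this

/-- The root element of an orbit of roots in the twisted group. -/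
noncomputable def y (r : ℕ) (t : K) : C.Z.G1 :=
  if hr : r < 72 then ⟨(yA C r t : GL chevE6.Idx K), yA_mem C hr t⟩ else 1

theorem coe_y {r : ℕ} (hr : r < 72) (t : K) :
    (y C r t : GL chevE6.Idx K) = (yA C r t : GL chevE6.Idx K) := by
  rw [y, dif_pos hr]

theorem y_add (r : ℕ) (t u : K) : y C r t * y C r u = y C r (t + u) := by
  by_cases hr : r < 72
  · refine Subtype.ext ?_
    show (y C r t : GL chevE6.Idx K) * (y C r u : GL chevE6.Idx K) = _
    rw [coe_y C hr, coe_y C hr, coe_y C hr, ← yA_add C hr]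
    rfl
  · simp [y, hr]

/-- A root subgroup as a homomorphism. -/
noncomputable def eY (r : ℕ) : Multiplicative K →* C.Z.G1 :=
  MonoidHom.mk' (fun t => y C r t.toAdd) fun a b => by rw [toAdd_mul, y_add C]

theorem eY_apply (r : ℕ) (t : K) : eY C r (Multiplicative.ofAdd t) = y C r t := rfl

theorem y_zero (r : ℕ) : y C r 0 = 1 := by
  have := map_one (eY C r)
  rwa [← eY_apply C r 0, ofAdd_zero]

/-- An equation between ambient elements is one in the twisted group. -/
theorem lift_eq {a b : C.Z.G1} {A B : chevE6.group K} (ha : (a : GL chevE6.Idx K) = A)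
    (hb : (b : GL chevE6.Idx K) = B) (h : A = B) : a = b :=
  Subtype.ext (ha.trans ((congrArg Subtype.val h).trans hb.symm))

/-- A root element can be written at either root of its orbit. -/
theorem y_pi {r : ℕ} (hr : r < 72) (t : K) : y C (piN r) t = y C r ((cs r : K) * C.φ t) := by
  obtain ⟨h1, h2, h3, hc, h4, -, h6, h7, -⟩ := map_spec hr
  refine lift_eq C (coe_y C h1 t) (coe_y C hr _) ?_
  by_cases h : piN r = r
  · rw [h, yA_long C h, yA_long C h, h4 h, Int.cast_one, one_mul, φφ C, add_comm]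
  · rw [yA_short C (by rw [h2]; exact fun e => h e.symm), yA_short C h, h2, h3, map_mul,
      map_intCast, φφ C, ← mul_assoc, ← Int.cast_mul,
      show cs r * cs r = 1 by rcases hc with e | e <;> rw [e] <;> rfl, Int.cast_one, one_mul]
    exact xg_comm hr h1 h6 h7 _ _

theorem y_long_eq {r : ℕ} (hr : r < 72) (h : piN r = r) {t u : K} (e : tr C t = tr C u) :
    y C r t = y C r u := by
  refine lift_eq C (coe_y C hr t) (coe_y C hr u) ?_
  rw [yA_long C h, yA_long C h]
  exact congrArg (xg r) e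

end CfsgLib.E6TwMinDeg
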