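import Cfsg.Agent.E6TwMinDeg.Line

/-!
The lowest line is fixed by the positive root subgroups of the Levi factor; comparing it inside a
`SL₃` generated by long root subgroups gives an eigenvector supported at a long root of the factor.
-/

set_option autoImplicit false
set_option linter.unusedSectionVars false
set_option linter.style.haveILetI false
set_option linter.unusedSimpArgs false

namespace CfsgLib.E6TwMinDeg

open Cfsg.Lie CfsgLib.Chev CfsgLib.Chev.Tab CfsgLib.E6MinDeg Module CfsgLib.MinDeg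
open scoped MatrixGroups

variable {K : Type*} [Field K] [Fintype K] {q : ℕ} {C : E6Tw.Ctx K q}
  {V : Type*} [AddCommGroup V] [Module ℂ V] [FiniteDimensional ℂ V]
  {ρ : Representation ℂ C.Z.G1 V}

/-- A root element preserving the line acts on it by a scalar. -/
theorem stab_scalar {r : ℕ} (h : stabOK r = true) {a : K} {v : V}
    (h1 : dW C ρ QZ (sp C 46 a) = 1) (hv : v ∈ W C ρ QZ (sp C 46 a)) (hv0 : v ≠ 0) (t : K) :
    ∃ c : ℂ, ρ (y C r t) v = c • v := by
  simp only [stabOK, decide_eq_true_eq] at h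
  obtain ⟨hr, hall⟩ := h
  have hok : ∀ w ∈ QZ, w < 72 ∧ (w = r ∨ w = piN r ∨ apart r w = true) ∧
      (∀ u ∈ srcs r w, u ∈ QZ) ∧ ∀ u ∈ quad r w, u ∈ QZ ∧
        u ∈ QZ.filter fun x => decide (x ≠ 46) := fun w hw => by
    have := (hall w hw).1
    simp only [okY, decide_eq_true_eq] at this
    obtain ⟨o1, o2, o3, o4⟩ := this
    exact ⟨o1, o2, o3, fun u hu => ⟨(o4 u hu).1,
      List.mem_filter.2 ⟨(o4 u hu).1, by simpa using (o4 u hu).2⟩⟩⟩
  have hin : ρ (y C r t) v ∈ W C ρ QZ (sp C 46 a) :=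
    W_mono C ρ (P := mv C r t (sp C 46 a)) (fun w hw => ⟨hw, by
      rw [mv, del_eq_zero C (fun u hu => sp_ne C a fun e : u = 46 => (hall w hw).2 (e ▸ hu)),
        sub_zero]⟩)
      (translate C ρ ⟨hr, hok⟩
        (fun z hz => sp_ne C a (by simpa using (List.mem_filter.1 hz).2)) (fun _ h => h) t hv)
  obtain ⟨c, hc⟩ := exists_smul_eq_of_finrank_eq_one h1
    (x := (⟨v, hv⟩ : W C ρ QZ (sp C 46 a))) (fun e => hv0 (congrArg Subtype.val e)) ⟨_, hin⟩
  exact ⟨c, (congrArg Subtype.val hc).symm⟩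

/-- A commutator of elements acting by scalars acts trivially. -/
theorem phase_fix {g x r : C.Z.G1} {v : V} (he : x * r = r * (x * g)) {c d : ℂ}
    (hx : ρ x v = c • v) (hr : ρ r v = d • v) : ρ g v = v := by
  have e := congrArg (fun z => ρ z v) he
  simp only [map_mul, Module.End.mul_apply] at e
  rw [hr, map_smul, hx, smul_smul] at e
  have e2 : ρ r (ρ x v) = ρ r (ρ x (ρ g v)) := by
    rw [← e, hx, map_smul, hr, smul_smul, mul_comm]
  by_contra hne
  refine rho_inj ρ (g := x) (sub_ne_zero.2 hne) ?_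
  by_contra hne2
  refine rho_inj ρ (g := r) hne2 ?_
  rw [map_sub, map_sub, ← e2, sub_self]

theorem at_rp {v : V} {z : ℕ} (hz : z < 72) (h : ∀ w, ρ (y C z w) v = v) (w : K) :
    ρ (y C (rp z) w) v = v := by
  by_cases hlt : piN z < z
  · rw [rp, if_pos hlt, y_pi C hz, h]
  · rw [rp, if_neg hlt, h]

theorem phase_short {r x : ℕ} (hr : stabOK r = true) (hx : stabOK x = true)
    (ha : apart r x = true) (pr : piN r ≠ r) (px : piN x ≠ x) (hs : sgnR r x ≠ 0) {a : K} {v : V}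
    (h1 : dW C ρ QZ (sp C 46 a) = 1) (hv : v ∈ W C ρ QZ (sp C 46 a)) (hv0 : v ≠ 0) (w : K) :
    ρ (y C (rp (tgtR r x)) w) v = v := by
  have hr72 : r < 72 := by simp only [stabOK, decide_eq_true_eq] at hr; exact hr.1
  have hx72 : x < 72 := by simp only [stabOK, decide_eq_true_eq] at hx; exact hx.1
  have o1 := (apart_spec ha).1
  refine at_rp (tgt_lt C hr72 hx72 o1 hs) (fun w => ?_) w
  have hs0 := sgn_ne (F := K) hr72 hx72 o1 hs
  obtain ⟨c, hc⟩ := stab_scalar hx h1 hv hv0 (-w / (sgnR r x : K))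
  obtain ⟨d, hd⟩ := stab_scalar hr h1 hv hv0 (1 : K)
  have := phase_fix (swap_SS C hr72 hx72 ha pr px hs 1 _) hc hd
  rwa [show -((sgnR r x : K) * 1 * (-w / (sgnR r x : K))) = w by field_simp] at this

theorem phase_last {a : K} {v : V} (h1 : dW C ρ QZ (sp C 46 a) = 1)
    (hv : v ∈ W C ρ QZ (sp C 46 a)) (hv0 : v ≠ 0) (h45 : ∀ w, ρ (y C 45 w) v = v) (w : K) :
    ρ (y C 60 w) v = v := by
  obtain ⟨-, -, hr, hx, ha, pr, px, hs, hz, hz', h60, hs2, hn2, -⟩ := chk_phase
  have o1 := (apart_spec ha).1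
  have hlt := tgt_lt C (by norm_num) (by norm_num) o1 hs
  have hfix45 : ∀ u, ρ (y C (tgtR 36 44) u) v = v := fun u => by
    by_cases hl : piN (tgtR 36 44) < tgtR 36 44
    · rw [rp, if_pos hl] at hz
      obtain ⟨h45', h2, -⟩ := map_spec hlt
      have e := y_pi C (r := piN (tgtR 36 44)) h45' u
      rw [h2] at e
      rw [e, hz, h45]
    · rw [rp, if_neg hl] at hz
      rw [hz, h45]
  obtain ⟨-, -, -, hcs, -⟩ := map_spec (show 36 < 72 by norm_num)
  have hlt2 : tgtR 36 44 ≠ 71 - piN 36 := chk_phase.2.2.2.2.2.2.2.2.2.2.2.2.2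
  set k : K := (sgnR (piN 36) (tgtR 36 44) : K) * (sgnR 36 44 : K) * (cs 36 : K) * (1 * C.φ 1)
    with hk
  have hk0 : k ≠ 0 := by
    have h1 := sgn_ne (F := K) (r := 36) (x := 44) (by norm_num) (by norm_num) o1 hs
    have h2 := sgn_ne (F := K) (map_spec (show 36 < 72 by norm_num)).1 hlt hlt2 hs2
    have h3 : (cs 36 : K) ≠ 0 := by rcases hcs with e | e <;> rw [e] <;> simp
    simp [hk, h1, h2, h3]
  have hkf : C.φ k = k := by simp [hk, map_mul]
  obtain ⟨d, hd⟩ := stab_scalar hr h1 hv hv0 (1 : K)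
  obtain ⟨c, hc⟩ := stab_scalar hx h1 hv hv0 (θ C * (tr C w / k))
  have := phase_fix (swap_SL C (by norm_num) (by norm_num) ha pr px 1 _) hc hd
  rw [← hk, hz', map_mul, Module.End.mul_apply,
    tr_θ_mul C (show C.φ (tr C w / k) = tr C w / k by rw [map_div₀, φ_tr C, hkf]),
    mul_div_cancel₀ _ hk0,
    y_long_eq C (by norm_num) h60 (tr_θ_mul C (φ_tr C w))] at this
  by_contra hne
  refine rho_inj ρ (g := y C (tgtR 36 44) (-((sgnR 36 44 : K) * 1 * (tr C w / k))))
    (sub_ne_zero.2 hne) ?_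
  rw [map_sub, this, hfix45, sub_self]

variable (H : Small C ρ)
include H

theorem Small.low_line {a : K} (ha : a ≠ 0) (fa : C.φ a = a) : dW C ρ QZ (sp C 46 a) = 1 := by
  have hc := chk_cells
  simp only [cells, cellsOK, Bool.and_eq_true] at hc
  obtain ⟨-, -, -, -, -, -, -, hc46, -⟩ := hc
  refine le_antisymm ?_ (H.cell_line hc46 ha fa)
  obtain ⟨hw, hp⟩ := chk_back
  have := word_map C ρ _ hw a
  rw [img_long C _ hp] at this
  refine this.trans (le_of_eq (H.line (fun e => ha ?_) (wS_fix H _ _ _ fa)))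
  have hs := wS_sq (F := K) (flatW [1, 2, 1, 3, 2, 1]) (show 46 < 72 by norm_num)
  have := congrArg ((wS (flatW [1, 2, 1, 3, 2, 1]) 46 : K) * ·) e
  simpa [← mul_assoc, hs] using this

/-- The lowest line is fixed by the root subgroups of the Levi factor. -/
theorem Small.low_fixed {a : K} (ha : a ≠ 0) (fa : C.φ a = a) :
    0 < dW C ρ AU (sp C 46 a) := by
  have h1 := H.low_line ha fa
  obtain ⟨v, hv, hv0⟩ := (dW_pos_iff C ρ).1 (show 0 < dW C ρ QZ (sp C 46 a) by omega)
  refine (dW_pos_iff C ρ).2 ⟨v, (mem_W C ρ).2 fun x hx u => ?_, hv0⟩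
  rcases List.mem_append.1 hx with hx | hx
  · exact (mem_W C ρ).1 hv x hx u
  rw [sp_ne C a ((by decide +kernel : ∀ z ∈ UL, z ≠ 46) x hx), zero_mul,
    AddChar.map_zero_eq_one, one_smul]
  obtain ⟨hp, hcov, -⟩ := chk_phase
  have short : ∀ p ∈ phases, ∀ w, ρ (y C (rp (tgtR p.1 p.2)) w) v = v := fun p hp' w => by
    obtain ⟨s1, s2, ha', pr, px, hs⟩ := hp p hp'
    exact phase_short s1 s2 ha' pr px hs h1 hv hv0 w
  rcases hcov x hx with rfl | ⟨p, hp', rfl⟩
  · refine phase_last h1 hv hv0 (fun w => ?_) u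
    rcases hcov 45 (by decide +kernel) with e | ⟨p', hp'', e⟩
    · exact absurd e (by norm_num)
    · rw [← e]; exact short p' hp'' w
  · exact short p hp' u

end CfsgLib.E6TwMinDeg
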