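import Cfsg.Agent.E6TwMinDeg.Data

/-!
In a representation of small degree the characters of the radical supported at one long root form a
line.
-/

set_option autoImplicit false
set_option linter.unusedSectionVars false
set_option linter.style.haveILetI false
set_option linter.unusedSimpArgs false

namespace CfsgLib.E6TwMinDeg

open Cfsg.Lie CfsgLib.Chev CfsgLib.Chev.Tab CfsgLib.E6MinDeg Module CfsgLib.MinDeg
open scoped MatrixGroups

/-- The bound. -/
def bnd (q : ℕ) : ℕ := q * (q ^ 6 - q ^ 3 + 1) * (q ^ 4 + 1)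

theorem bnd_eq {q : ℕ} (hq : 2 ≤ q) :
    (bnd q : ℤ) = (q : ℤ) ^ 11 - (q : ℤ) ^ 8 + (q : ℤ) ^ 7 + (q : ℤ) ^ 5 - (q : ℤ) ^ 4 + q := by
  have h : q ^ 3 ≤ q ^ 6 := Nat.pow_le_pow_right (by omega) (by norm_num)
  rw [bnd, Nat.cast_mul, Nat.cast_mul, Nat.cast_add, Nat.cast_sub h]
  push_cast
  ring

theorem bnd_le {q : ℕ} (hq : 2 ≤ q) : bnd q ≤ (q + 1) * ((q - 1) * (q ^ 9 * 2)) := by
  obtain ⟨m, rfl⟩ := Nat.exists_eq_add_of_le hq
  zify [show 1 ≤ 2 + m by omega]
  rw [bnd_eq (by omega)]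
  have h2 : (2 : ℤ) ≤ ((2 + m : ℕ) : ℤ) := by omega
  push_cast at h2 ⊢
  generalize (2 + (m : ℤ)) = x at h2 ⊢
  nlinarith [pow_le_pow_right₀ (by linarith : (1 : ℤ) ≤ x) (by norm_num : 4 ≤ 8),
    pow_le_pow_right₀ (by linarith : (1 : ℤ) ≤ x) (by norm_num : 5 ≤ 9),
    pow_le_pow_right₀ (by linarith : (1 : ℤ) ≤ x) (by norm_num : 1 ≤ 9),
    pow_le_pow_right₀ (by linarith : (1 : ℤ) ≤ x) (by norm_num : 7 ≤ 9),
    mul_le_mul_of_nonneg_right (mul_le_mul h2 h2 (by norm_num) (by linarith))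
      (pow_nonneg (by linarith : (0 : ℤ) ≤ x) 9),
    pow_nonneg (by linarith : (0 : ℤ) ≤ x) 8, pow_nonneg (by linarith : (0 : ℤ) ≤ x) 9]

variable {K : Type*} [Field K] [Fintype K] {q : ℕ} (C : E6Tw.Ctx K q)
  {V : Type*} [AddCommGroup V] [Module ℂ V] [FiniteDimensional ℂ V]
  (ρ : Representation ℂ C.Z.G1 V)
include C

theorem upd_sp (x : ℕ) (a : K) : Function.update (fun _ => (0 : K)) x a = sp C x a := by
  funext y
  simp [Function.update_apply, sp]

theorem sp_zero' (x : ℕ) : sp C x (0 : K) = fun _ => 0 := funext (sp_zero C x)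

theorem scale_eq {S : List ℕ} (hS : ∀ x ∈ S, x < 72) {μ : ℕ}
    (hμ : T6.cart 1 μ = 1 ∨ T6.cart 1 μ = -1) {a b : K} (ha : a ≠ 0) (hb : b ≠ 0)
    (fa : C.φ a = a) (fb : C.φ b = b) : dW C ρ S (sp C μ a) = dW C ρ S (sp C μ b) :=
  le_antisymm (scale C ρ hS hμ ha hb fa fb) (scale C ρ hS hμ hb ha fb fa)

theorem dW_nil (P : ℕ → K) : dW C ρ [] P = finrank ℂ V := by
  rw [dW, show W C ρ [] P = ⊤ from rfl, finrank_top]

theorem two_le : 2 ≤ q := C.hq.two_le

/-- The standing hypotheses: small degree and a faithful highest root subgroup. -/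
structure Small : Prop where
  small : finrank ℂ V < bnd q
  moves : ∃ t : K, ρ (y C 71 t) ≠ 1

variable {C ρ}

variable (H : Small C ρ)
include H

theorem Small.top_pos {a : K} (ha : a ≠ 0) (fa : C.φ a = a) : 0 < dW C ρ [71] (sp C 71 a) := by
  obtain ⟨-, -, -, -, -, -, -, -, -, -, -, -, -, -, hc, -⟩ := chk_top
  obtain ⟨t, ht⟩ := H.moves
  obtain ⟨b, hb, he⟩ := G2MinDeg.exists_eig_ne_zero ρ (eY C) (Ψ C) (Ψ_prim C) (r := 71) (u := t)
    (by rwa [eY_apply])
  have hpos : 0 < dW C ρ [71] (sp C 71 b) := by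
    obtain ⟨v, hv, hv0⟩ := Submodule.exists_mem_ne_zero_of_ne_bot he
    refine (dW_pos_iff C ρ).2 ⟨v, (mem_W C ρ).2 fun x hx u => ?_, hv0⟩
    rw [List.mem_singleton] at hx
    subst hx
    rw [sp_self, ← eY_apply]
    exact (G2MinDeg.mem_eig ρ (eY C) (Ψ C)).1 hv u
  have fb := valid C ρ hpos (List.mem_singleton_self _) (by norm_num) (by decide +kernel)
  rw [sp_self] at fb
  rwa [scale_eq C ρ (by simp) (Or.inl hc) ha hb fa fb]

theorem Small.top_ge {a : K} (ha : a ≠ 0) (fa : C.φ a = a) :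
    q ^ 10 ≤ dW C ρ [71] (sp C 71 a) := by
  obtain ⟨hext, hcnt, hkeep, hg, -⟩ := chk_top
  obtain ⟨P, hP, -, hpos⟩ := extend C ρ hext (P := sp C 71 a) (by simp) (H.top_pos ha fa)
    (S := 71 :: topA) fun y hy => by
      rcases List.mem_cons.1 hy with rfl | hy
      exacts [Or.inr (List.mem_singleton_self _), Or.inl hy]
  have h71 : P 71 = a := by rw [hP 71 (List.mem_singleton_self _), sp_self]
  have := count_le C ρ hcnt hkeep (P := P) (fun y hy hn => absurd hy hn) (by rwa [h71])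
  rw [hg, dW_congr C ρ (S := [71]) (S' := [71]) (P' := sp C 71 a) (fun _ => Iff.rfl)
    (fun x hx => by rw [List.mem_singleton] at hx; subst hx; rw [h71, sp_self])] at this
  exact le_trans (Nat.le_mul_of_pos_right _ hpos) this

theorem Small.second {a : K} (ha : a ≠ 0) (fa : C.φ a = a) :
    q * dW C ρ [71, 70] (sp C 71 a) ≤ dW C ρ [71] (sp C 71 a) ∧
      0 < dW C ρ [71, 70] (sp C 71 a) := by
  obtain ⟨-, -, -, -, hcnt, hkeep, hg, hext, hkill, hres, -⟩ := chk_top
  refine ⟨?_, ?_⟩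
  · have := count_le C ρ hcnt hkeep (P := sp C 71 a) (fun y _ hn => sp_ne C a (by simpa using hn))
      (by rwa [sp_self])
    rwa [hg, pow_one] at this
  · obtain ⟨P, hP, -, hpos⟩ := extend C ρ hext (P := sp C 71 a) (by simp) (H.top_pos ha fa)
      (S := [70, 71]) (by simp)
    have h71 : P 71 = a := by rw [hP 71 (List.mem_singleton_self _), sp_self]
    obtain ⟨P', hpos', hz, hμ⟩ := kill C ρ hkill (P := P) (fun y hy hn => absurd hy hn)
      (by rwa [h71]) hpos
    rw [hres] at hpos' hz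
    refine lt_of_lt_of_le hpos' (dW_mono C ρ fun x hx => ?_)
    simp only [List.mem_cons, List.not_mem_nil, or_false] at hx
    rcases hx with rfl | rfl
    · exact ⟨by simp, by rw [sp_self, hμ, h71]⟩
    · exact ⟨by simp, by rw [sp_ne C a (by norm_num), hz 70 (by simp) (by simp)]⟩

theorem Small.pair {a : K} (ha : a ≠ 0) (fa : C.φ a = a) :
    dW C ρ [71, 70] (sp C 70 a) = dW C ρ [71, 70] (sp C 71 a) ∧
      (q + 1) * ((q - 1) * dW C ρ [71, 70] (sp C 70 a)) ≤ finrank ℂ V := by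
  classical
  obtain ⟨-, -, -, -, -, -, -, -, -, -, hinv, hinv', hw, hw', hc, hc'⟩ := chk_top
  have hperm : ∀ x : ℕ, x ∈ [70, 71] ↔ x ∈ [71, 70] := fun x => by simp [or_comm]
  have hD : dW C ρ [70] (fun _ => (0 : K)) = dW C ρ [71] (fun _ => (0 : K)) :=
    le_antisymm (word_zero C ρ [0] hw') (word_zero C ρ [0] hw)
  have e1 := slices_eq C ρ hinv (P := fun _ => (0 : K)) (fun _ _ _ => rfl)
  have e2 := slices_eq C ρ hinv' (P := fun _ => (0 : K)) (fun _ _ _ => rfl)
  rw [← sum_Fx C ρ [71] _ (by norm_num) (by decide +kernel),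
    ← Finset.add_sum_erase _ _ (zero_mem_Fx C)] at e1
  rw [← sum_Fx C ρ [70] _ (by norm_num) (by decide +kernel),
    ← Finset.add_sum_erase _ _ (zero_mem_Fx C), hD] at e2
  simp only [upd_sp C] at e1 e2
  have c1 : ∀ P, dW C ρ [70, 71] P = dW C ρ [71, 70] P := fun P =>
    dW_congr C ρ hperm fun _ _ => rfl
  simp only [c1, sp_zero'] at e1 e2
  have hlt : ∀ x ∈ [71, 70], x < 72 := by simp
  have s1 : ∀ b ∈ (Fx C).erase 0, dW C ρ [71, 70] (sp C 70 b) = dW C ρ [71, 70] (sp C 70 a) :=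
    fun b hb => scale_eq C ρ hlt (Or.inr hc') (Finset.ne_of_mem_erase hb) ha
      ((mem_Fx C).1 (Finset.mem_of_mem_erase hb)) fa
  have s2 : ∀ b ∈ (Fx C).erase 0, dW C ρ [71, 70] (sp C 71 b) = dW C ρ [71, 70] (sp C 71 a) :=
    fun b hb => scale_eq C ρ hlt (Or.inl hc) (Finset.ne_of_mem_erase hb) ha
      ((mem_Fx C).1 (Finset.mem_of_mem_erase hb)) fa
  rw [Finset.sum_congr rfl s1] at e1
  rw [Finset.sum_congr rfl s2] at e2
  simp only [Finset.sum_const, smul_eq_mul, Finset.card_erase_of_mem (zero_mem_Fx C), card_Fx]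
    at e1 e2
  have heq : dW C ρ [71, 70] (sp C 70 a) = dW C ρ [71, 70] (sp C 71 a) := by
    refine Nat.eq_of_mul_eq_mul_left (show 0 < q - 1 by have := two_le C; omega) ?_
    omega
  refine ⟨heq, ?_⟩
  have htop := slices_ge C ρ (x := 71) (S := []) (P := fun _ => (0 : K)) (by simp)
    (e := q * dW C ρ [71, 70] (sp C 70 a)) fun b fb hb => by
      rw [upd_sp C, scale_eq C ρ (by simp) (Or.inl hc) hb ha fb fa, heq]
      exact (H.second ha fa).1
  rw [dW_nil, upd_sp C, sp_zero'] at htop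
  calc (q + 1) * ((q - 1) * dW C ρ [71, 70] (sp C 70 a))
      = (q - 1) * dW C ρ [71, 70] (sp C 70 a) +
        (q - 1) * (q * dW C ρ [71, 70] (sp C 70 a)) := by ring
    _ ≤ finrank ℂ V := by omega

theorem Small.adj_pos {a : K} (ha : a ≠ 0) (fa : C.φ a = a) : 0 < dW C ρ SY (sp C 70 a) := by
  obtain ⟨hext, hkill, hres, -⟩ := chk_adj
  obtain ⟨P, hP, -, hpos⟩ := extend C ρ hext (P := sp C 70 a)
    (fun z hz => by rw [List.mem_singleton] at hz; subst hz; exact sp_ne C a (by norm_num))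
    (by
      rw [dW_congr C ρ (S' := [71, 70]) (P' := sp C 70 a) (fun x => by simp [or_comm])
        (fun _ _ => rfl), (H.pair ha fa).1]
      exact (H.second ha fa).2) (S := QZ) fun y hy => by
      by_cases h : y = 70
      · exact Or.inr (by simp [h])
      · rcases List.mem_cons.1 hy with rfl | hy
        · exact Or.inr (by simp)
        · exact Or.inl (List.mem_filter.2 ⟨hy, by simpa using h⟩)
  have h70 : P 70 = a := by rw [hP 70 (by simp), sp_self]
  obtain ⟨P', hpos', hz, hμ⟩ := kill C ρ hkill (P := P) (fun y hy hn => by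
      rcases List.mem_cons.1 hy with rfl | hy
      · rw [hP 71 (by simp), sp_ne C a (by norm_num)]
      · exact absurd hy hn) (by rwa [h70]) hpos
  refine lt_of_lt_of_le hpos' (dW_mono C ρ fun x hx => ⟨(hres x hx).1, ?_⟩)
  rcases eq_or_ne x 70 with rfl | hne
  · rw [sp_self, hμ, h70]
  · rw [sp_ne C a hne, hz x (hres x hx).1 ((hres x hx).2.resolve_left hne)]

theorem Small.adj_le {a : K} (ha : a ≠ 0) (fa : C.φ a = a) : dW C ρ SY (sp C 70 a) ≤ 1 := by
  obtain ⟨-, -, -, hcnt, hkeep, hg, -⟩ := chk_adj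
  have h1 := count_le C ρ hcnt hkeep (P := sp C 70 a) (fun y _ hn => sp_ne C a (by simpa using hn))
    (by rwa [sp_self])
  rw [hg] at h1
  have h2 := (H.pair ha fa).2
  have h3 := H.small
  have h4 := bnd_le (two_le C)
  by_contra hc
  have h5 : (q + 1) * ((q - 1) * (q ^ 9 * 2)) ≤
      (q + 1) * ((q - 1) * dW C ρ [71, 70] (sp C 70 a)) :=
    Nat.mul_le_mul_left _ (Nat.mul_le_mul_left _
      (le_trans (Nat.mul_le_mul_left _ (Nat.succ_le_of_lt (not_le.1 hc))) h1))
  omega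

omit H

theorem zero_of_del {r x z : ℕ} (hr : r < 72) (pr : piN r ≠ r) (hx : x < 72)
    (ha : apart r x = true) (hhead : (srcs r x).head? = some z)
    (hshort : piN x ≠ x → srcs r x = [z]) {P : ℕ → K}
    (hlong : piN x = x → ∀ w ∈ (srcs r x).tail, P w = 0)
    (hd : ∀ t, del C r t P x = 0) : P z = 0 := by
  obtain ⟨o1, -, o3, s1, s2⟩ := apart_spec ha
  obtain ⟨hr', -, -, hc, -⟩ := map_spec hr
  have same : ¬(x = r ∨ x = piN r) := not_or.2 ⟨s1, s2⟩
  have key : ∀ {w : ℕ}, w < 72 → PP C P w = 0 → P (rp w) = 0 := fun {w} hw h => by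
    unfold PP at h
    by_cases hlt : piN w < w
    · rw [if_pos hlt] at h
      rw [rp, if_pos hlt]
      obtain ⟨-, -, -, hcw, -⟩ := map_spec hw
      have hc0 : (cs w : K) ≠ 0 := by rcases hcw with e | e <;> rw [e] <;> simp
      have := (mul_eq_zero.1 h).resolve_left hc0
      rwa [map_eq_zero_iff _ (RingHom.injective _)] at this
    · rw [if_neg hlt] at h
      rwa [rp, if_neg hlt]
  rw [srcs, if_neg same] at hhead hshort hlong
  by_cases px : piN x = x
  · rw [if_pos px] at hhead hlong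
    by_cases h0 : sgnR r x = 0
    · simp [h0] at hhead
    rw [if_neg h0, if_neg pr] at hhead hlong
    simp only [List.head?_cons, Option.some.injEq] at hhead
    subst hhead
    refine key (tgt_lt C hr hx o1 h0) ?_
    have hz2 := PP_eq_zero C (z := tgtR (piN r) (tgtR r x))
      (hlong px (rp (tgtR (piN r) (tgtR r x))) (by simp))
    by_contra hne
    have hs0 := sgn_ne (F := K) hr hx o1 h0
    have := hd (θ C / ((sgnR r x : K) * PP C P (tgtR r x)))
    rw [del, if_neg same, if_pos px, if_neg pr, hz2, mul_zero, map_zero, mul_zero, sub_zero] at this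
    rw [show (sgnR r x : K) * (θ C / ((sgnR r x : K) * PP C P (tgtR r x))) *
      PP C P (tgtR r x) = θ C by field_simp, tr_apply, θ_spec C] at this
    exact one_ne_zero this
  rw [if_neg px, if_neg pr] at hshort
  have h := hshort px
  have hd1 := hd 1
  rw [del, if_neg same, if_neg px, if_neg pr, map_one, mul_one, mul_one] at hd1
  by_cases h0 : sgnR r x = 0
  · have h1 : sgnR (piN r) x ≠ 0 := fun e => by simp [h0, e] at h
    rw [if_pos h0, if_neg h1, List.nil_append] at h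
    rw [← (List.cons.inj h).1]
    refine key (tgt_lt C hr' hx o3 h1) ?_
    rw [h0, Int.cast_zero, zero_mul, zero_add] at hd1
    have hc0 : (cs r : K) ≠ 0 := by rcases hc with e | e <;> rw [e] <;> simp
    exact (mul_eq_zero.1 hd1).resolve_left (mul_ne_zero (sgn_ne hr' hx o3 h1) hc0)
  · have h1 : sgnR (piN r) x = 0 := by
      by_contra e
      simp [h0, e] at h
    rw [if_neg h0, if_pos h1, List.append_nil] at h
    rw [← (List.cons.inj h).1]
    refine key (tgt_lt C hr hx o1 h0) ?_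
    rw [h1, Int.cast_zero, zero_mul, zero_mul, add_zero] at hd1
    exact (mul_eq_zero.1 hd1).resolve_left (sgn_ne hr hx o1 h0)

/-- An element preserving a one-dimensional eigenspace keeps the character at a further root. -/
theorem line_step {p : ℕ × ℕ × ℕ} {Kn : List ℕ} (h : lineOK Kn p = true) {P : ℕ → K}
    (hKn : ∀ z ∈ Kn, P z = 0) (h1 : dW C ρ SY P ≤ 1) {v : V} (hv : v ∈ W C ρ QZ P) (hv0 : v ≠ 0) :
    P p.2.2 = 0 := by
  obtain ⟨r, x, z⟩ := p
  simp only [lineOK, Bool.and_eq_true, decide_eq_true_eq] at h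
  obtain ⟨⟨hr, hxQ, hzQ, hSY, hx, -⟩, htype⟩ := h
  have hN : ∀ w ∈ QZ, w ∈ Kn ∨ w ∈ QZ.filter fun x => decide (x ∉ Kn) := fun w hw => by
    by_cases hm : w ∈ Kn
    exacts [Or.inl hm, Or.inr (List.mem_filter.2 ⟨hw, by simpa using hm⟩)]
  have hmov : ∀ w ∈ x :: SY, w < 72 ∧ (w = r ∨ w = piN r ∨ apart r w = true) ∧
      (∀ u ∈ srcs r w, u ∈ QZ) ∧ ∀ u ∈ quad r w, u ∈ QZ ∧ u ∈ Kn := fun w hw => by
    have hk : okY r QZ (QZ.filter fun x => decide (x ∉ Kn)) w = true := by
      rcases List.mem_cons.1 hw with rfl | hw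
      exacts [hx, (hSY w hw).1]
    simp only [okY, decide_eq_true_eq] at hk
    obtain ⟨o1, o2, o3, o4⟩ := hk
    exact ⟨o1, o2, o3, fun u hu => ⟨(o4 u hu).1, (hN u (o4 u hu).1).resolve_right (o4 u hu).2⟩⟩
  have hsub : ∀ w ∈ x :: SY, w ∈ QZ := fun w hw => by
    rcases List.mem_cons.1 hw with rfl | hw
    exacts [hxQ, (by decide +kernel : ∀ w ∈ SY, w ∈ QZ) w hw]
  have hvS : v ∈ W C ρ SY P :=
    W_mono C ρ (fun w hw => ⟨hsub w (List.mem_cons_of_mem _ hw), rfl⟩) hv
  have hdim : finrank ℂ (W C ρ SY P) = 1 :=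
    le_antisymm h1 ((dW_pos_iff C ρ).2 ⟨v, hvS, hv0⟩)
  have hd : ∀ t, del C r t P x = 0 := fun t => by
    have htr := translate C ρ (r := r) (Z := Kn) ⟨hr, hmov⟩ hKn hsub t hv
    have hin : ρ (y C r t) v ∈ W C ρ SY P := W_mono C ρ (P := mv C r t P)
      (fun w hw => ⟨List.mem_cons_of_mem _ hw, by
        rw [mv, del_eq_zero C (fun u hu => hKn u ((hSY w hw).2 u hu)), sub_zero]⟩) htr
    obtain ⟨c, hc⟩ := exists_smul_eq_of_finrank_eq_one hdim
      (x := (⟨v, hvS⟩ : W C ρ SY P)) (fun e => hv0 (congrArg Subtype.val e)) ⟨_, hin⟩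
    have hc' : ρ (y C r t) v = c • v := (congrArg Subtype.val hc).symm
    have hc0 : c ≠ 0 := fun e => rho_inj ρ hv0 (g := y C r t) (by rw [hc', e, zero_smul])
    have e : (Ψ C).mulShift (mv C r t P x) = (Ψ C).mulShift (P x) := by
      ext u
      rw [AddChar.mulShift_apply, AddChar.mulShift_apply]
      have e2 := (mem_W C ρ).1 htr x List.mem_cons_self u
      rw [hc', map_smul, (mem_W C ρ).1 hv x hxQ u, smul_smul, smul_smul] at e2
      exact (mul_right_cancel₀ hc0 ((mul_comm _ c).trans (smul_left_injective ℂ hv0 e2))).symm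
    have := AddChar.to_mulShift_inj_of_isPrimitive (Ψ_prim C) e
    rwa [mv, sub_eq_self] at this
  by_cases pr : piN r = r
  · rw [if_pos pr] at htype
    by_contra hne
    have h' := htype
    simp only [stepOK, okY, Bool.and_eq_true, decide_eq_true_eq] at h'
    obtain ⟨-, -, -, -, hz72, -, -, -, hzf, -⟩ := h'
    obtain ⟨t, ht⟩ := exists_del C htype hne
      (valid C ρ ((dW_pos_iff C ρ).2 ⟨v, hv, hv0⟩) hzQ hz72 hzf) (d := 1) fun _ => map_one _
    exact one_ne_zero (ht.symm.trans (hd t))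
  · rw [if_neg pr] at htype
    simp only [decide_eq_true_eq] at htype
    obtain ⟨n1, n2, hh, hs, hl⟩ := htype
    obtain ⟨hx72, hxa, -, -⟩ := hmov x List.mem_cons_self
    exact zero_of_del hr pr hx72 ((hxa.resolve_left n1).resolve_left n2) hh hs
      (fun px w hw => hKn w (of_decide_eq_true (List.all_eq_true.1 (hl px) w hw))) hd

theorem lines_zero : ∀ {L : List (ℕ × ℕ × ℕ)} {Kn : List ℕ}, linesOK L Kn = true →
    ∀ {P : ℕ → K}, (∀ z ∈ Kn, P z = 0) → dW C ρ SY P ≤ 1 → ∀ {v : V}, v ∈ W C ρ QZ P → v ≠ 0 →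
    ∀ x ∈ QZ, x ≠ 70 → P x = 0
  | [], Kn, h, P, hKn, _, v, _, _ => fun x hx hne =>
    hKn x ((of_decide_eq_true h x hx).resolve_left hne)
  | p :: L, Kn, h, P, hKn, h1, v, hv, hv0 => by
    rw [linesOK, Bool.and_eq_true] at h
    exact lines_zero h.2 (fun z hz => (List.mem_cons.1 hz).elim
      (fun e => e ▸ line_step h.1 hKn h1 hv hv0) (hKn z)) h1 hv hv0

include H

theorem Small.line {a : K} (ha : a ≠ 0) (fa : C.φ a = a) : dW C ρ QZ (sp C 70 a) = 1 := by
  obtain ⟨-, -, -, -, -, -, hext, hsub⟩ := chk_adj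
  have hmono : dW C ρ QZ (sp C 70 a) ≤ dW C ρ SY (sp C 70 a) :=
    dW_mono C ρ fun x hx => ⟨(by decide +kernel : ∀ w ∈ SY, w ∈ QZ) x hx, rfl⟩
  refine le_antisymm (hmono.trans (H.adj_le ha fa)) ?_
  obtain ⟨P, hP, -, hpos⟩ := extend C ρ hext (P := sp C 70 a)
    (fun z hz => by rw [List.mem_singleton] at hz; subst hz; exact sp_ne C a (by norm_num))
    (H.adj_pos ha fa) (S := QZ) hsub
  obtain ⟨v, hv, hv0⟩ := (dW_pos_iff C ρ).1 hpos
  have h1 : dW C ρ SY P ≤ 1 :=
    (dW_congr C ρ (fun _ => Iff.rfl) hP).le.trans (H.adj_le ha fa)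
  have hz := lines_zero chk_lines (P := P)
    (fun z hz => by rw [hP z (chk_known z hz).1, sp_ne C a (chk_known z hz).2]) h1 hv hv0
  refine le_trans hpos (le_of_eq (dW_congr C ρ (fun _ => Iff.rfl) fun x hx => ?_))
  rcases eq_or_ne x 70 with rfl | hne
  · exact hP 70 (by simp [SY])
  · rw [hz x hx hne, sp_ne C a hne]

theorem wS_fix (L : List (Fin 4)) (x : ℕ) (b : K) (fb : C.φ b = b) :
    C.φ ((wS (flatW L) x : K) * b) = (wS (flatW L) x : K) * b := by
  rw [map_mul, map_intCast, fb]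

/-- Every long root of the radical carries a line. -/
theorem Small.cell_line {hi : List ℕ} {c : ℕ × List (Fin 4) × List (ℕ × ℕ) × ℕ}
    (h : cellOK hi c = true) {a : K} (ha : a ≠ 0) (fa : C.φ a = a) :
    0 < dW C ρ QZ (sp C c.1 a) := by
  simp only [cellOK, Bool.and_eq_true, decide_eq_true_eq] at h
  obtain ⟨⟨-, -, hp, -, hw, -⟩, -⟩ := h
  have h70 : 70 ∈ QZ := by decide +kernel
  have hs := wS_sq (F := K) (flatW c.2.1) (show 70 < 72 by norm_num)
  have := word_map C ρ c.2.1 hw ((wS (flatW c.2.1) 70 : K) * a)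
  rw [img_long C _ hp, ← mul_assoc, hs, one_mul, H.line (fun e => ha ?_) (wS_fix H _ _ _ fa)]
    at this
  · exact this
  · have := congrArg ((wS (flatW c.2.1) 70 : K) * ·) e
    simpa [← mul_assoc, hs] using this

theorem Small.cells_sum : ∀ {L : List (ℕ × List (Fin 4) × List (ℕ × ℕ) × ℕ)} {hi : List ℕ},
    cellsOK L hi = true →
    dW C ρ QZ (fun _ => (0 : K)) + (q - 1) * (L.map fun c => q ^ c.2.2.2).sum ≤
      dW C ρ hi (fun _ => (0 : K))
  | [], hi, h => by
    simpa using dW_mono C ρ (P := fun _ => (0 : K)) (P' := fun _ => (0 : K))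
      fun x hx => ⟨of_decide_eq_true h x hx, rfl⟩
  | c :: L, hi, h => by
    rw [cellsOK, Bool.and_eq_true] at h
    have ih := Small.cells_sum (L := L) h.2
    have h' := h.1
    simp only [cellOK, Bool.and_eq_true, decide_eq_true_eq] at h'
    obtain ⟨⟨-, hni, -, -, -, hg, hkeep⟩, hcnt⟩ := h'
    have hstep := slices_ge C ρ (x := c.1) (S := hi) (P := fun _ => (0 : K)) hni (e := q ^ c.2.2.2)
      fun b fb hb => by
        rw [upd_sp C, ← hg]
        exact le_trans (Nat.le_mul_of_pos_right _ (H.cell_line h.1 hb fb))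
          (count_le C ρ hcnt hkeep (fun y _ hn => sp_ne C b (by simpa using hn))
            (by rwa [sp_self]))
    rw [upd_sp C, sp_zero'] at hstep
    rw [List.map_cons, List.sum_cons, Nat.mul_add]
    omega

end CfsgLib.E6TwMinDeg
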