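import Cfsg.Agent.E6TwMinDeg.Levi

/-!
The count along the chain of radicals: a non-trivial representation of `²E₆(q)` of degree below
`q (q⁶ − q³ + 1) (q⁴ + 1)` has degree at most two below it.
-/

set_option autoImplicit false
set_option linter.unusedSectionVars false
set_option linter.style.haveILetI false
set_option linter.unusedSimpArgs false

namespace CfsgLib.E6TwMinDeg

open Cfsg.Lie CfsgLib.Chev CfsgLib.Chev.Tab CfsgLib.E6MinDeg Module CfsgLib.MinDeg
open scoped MatrixGroups

variable {K : Type*} [Field K] [Fintype K] {q : ℕ} {C : E6Tw.Ctx K q}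
  {V : Type*} [AddCommGroup V] [Module ℂ V] [FiniteDimensional ℂ V]
  {ρ : Representation ℂ C.Z.G1 V}

theorem zero_off {S N : List ℕ} {μ : ℕ} {a : K} (hμ : μ ∈ N) :
    ∀ y ∈ S, y ∉ N → sp C μ a y = 0 :=
  fun _ _ hn => sp_ne C a fun e => hn (e ▸ hμ)

variable (C) (ρ) in
/-- The total over the two coordinates of a long root subgroup of `SL₃` and its centre. -/
theorem centre_slice {r x : ℕ} (hstep : stepOK r x 47 (x :: 47 :: SB) [x, 47] = true)
    (hkeep : ∀ y ∈ 47 :: SB, y ∈ keep r x (x :: 47 :: SB) [x, 47])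
    (hinv : invOK x (47 :: SB) [47] = true) (hx : x < 72) (px : piN x = x) (hx47 : x ≠ 47)
    {b : K} (hb : b ≠ 0) :
    dW C ρ (47 :: SB) (sp C 47 b) = q * dW C ρ (x :: 47 :: SB) (sp C 47 b) := by
  classical
  rw [← slices_eq C ρ hinv (P := sp C 47 b) (zero_off (by simp)), ← sum_Fx C ρ _ _ hx px]
  have e0 : Function.update (sp C 47 b) x 0 = sp C 47 b := by
    rw [← sp_ne C b hx47, Function.update_eq_self]
  have move : ∀ c c' : K, C.φ c' = c' →
      dW C ρ (x :: 47 :: SB) (Function.update (sp C 47 b) x c) ≤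
        dW C ρ (x :: 47 :: SB) (Function.update (sp C 47 b) x c') := fun c c' fc => by
    refine le_trans (hit C ρ hstep (P := Function.update (sp C 47 b) x c) (fun y _ hn => ?_)
      (by rwa [Function.update_of_ne (Ne.symm hx47), sp_self]) (c := c') fun _ => fc) ?_
    · simp only [List.mem_cons, List.not_mem_nil, or_false, not_or] at hn
      rw [Function.update_of_ne hn.1, sp_ne C b hn.2]
    refine dW_mono C ρ fun y hy => ⟨?_, ?_⟩
    · rcases List.mem_cons.1 hy with rfl | hy
      exacts [List.mem_cons_self, List.mem_cons_of_mem _ (hkeep y hy)]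
    · rw [Function.update_idem]
  rw [Finset.sum_congr rfl fun c hc => le_antisymm (move c 0 (map_zero _))
    (move 0 c ((mem_Fx C).1 hc)), Finset.sum_const, card_Fx, smul_eq_mul, e0]

variable (H : Small C ρ)
include H

theorem Small.levi_pos {a : K} (ha : a ≠ 0) (fa : C.φ a = a) :
    0 < dW C ρ AU (sp C 39 a) := by
  classical
  obtain ⟨hs1, hs2, hkeep, hi1, hi2, hi3, hi4, hi5, hw0, hp0, hw1, hp1, hw1', hp1', c39, c47,
    hlt, hAU, h46, h39⟩ := chk_sl
  have hm : ∀ {μ : ℕ}, μ ∈ [39, 46, 47] → ∀ x ∈ μ :: 47 :: SB, x < 72 := fun {μ} hμ x hx => by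
    refine hlt x ?_
    simp only [List.mem_cons, List.not_mem_nil, or_false] at hμ hx ⊢
    rcases hx with rfl | hx | hx <;> tauto
  have hm39 := hm (μ := 39) (by simp)
  have hm46 := hm (μ := 46) (by simp)
  have hinv : ∀ (L : List (Fin 4)) {μ : ℕ}, μ < 72 → ∀ b : K,
      (wS (flatW L) μ : K) * ((wS (flatW L) μ : K) * b) = b := fun L {μ} hμ b => by
    rw [← mul_assoc, wS_sq (F := K) (flatW L) hμ, one_mul]
  have hne : ∀ (L : List (Fin 4)) {μ : ℕ}, μ < 72 → ∀ b : K, b ≠ 0 →
      (wS (flatW L) μ : K) * b ≠ 0 := fun L {μ} hμ b hb e => hb (by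
    rw [← hinv L hμ b, e, mul_zero])
  have one1 : (1 : K) ≠ 0 ∧ C.φ (1 : K) = 1 := ⟨one_ne_zero, map_one _⟩
  set e := dW C ρ (39 :: 47 :: SB) (sp C 47 1) with he
  set f := dW C ρ (46 :: 47 :: SB) (sp C 47 1) with hf
  have e47 : ∀ b : K, b ≠ 0 → C.φ b = b → dW C ρ (39 :: 47 :: SB) (sp C 47 b) = e :=
    fun b hb fb => scale_eq C ρ hm39 (Or.inl c47) hb one1.1 fb one1.2
  have f47 : ∀ b : K, b ≠ 0 → C.φ b = b → dW C ρ (46 :: 47 :: SB) (sp C 47 b) = f :=
    fun b hb fb => scale_eq C ρ hm46 (Or.inl c47) hb one1.1 fb one1.2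
  have ef : e = f := by
    have a1 := centre_slice C ρ hs1 (fun y hy => (hkeep y hy).1) hi1 (by norm_num)
      (by decide +kernel) (by norm_num) one1.1
    have a2 := centre_slice C ρ hs2 (fun y hy => (hkeep y hy).2) hi2 (by norm_num)
      (by decide +kernel) (by norm_num) one1.1
    exact Nat.eq_of_mul_eq_mul_left (show 0 < q by have := two_le C; omega) (a1.symm.trans a2)
  have f46 : ∀ b : K, b ≠ 0 → C.φ b = b → dW C ρ (46 :: 47 :: SB) (sp C 46 b) = f := by
    intro b hb fb
    refine le_antisymm ?_ ?_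
    · have := word_map C ρ [1] hw1 b
      rw [img_long C _ hp1] at this
      exact this.trans (f47 _ (hne _ (by norm_num) b hb) (wS_fix H _ _ _ fb)).le
    · have := word_map C ρ [1] hw1' ((wS (flatW [1]) 47 : K) * b)
      rw [img_long C _ hp1', hinv _ (by norm_num) b,
        f47 _ (hne _ (by norm_num) b hb) (wS_fix H _ _ _ fb)] at this
      exact this
  have hw0' : WordOK [0] (39 :: 47 :: SB) (39 :: 47 :: SB) 47 39 ∧
      piN (wR (flatW [0]) 47) = wR (flatW [0]) 47 := by decide +kernel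
  have e39 : ∀ b : K, b ≠ 0 → C.φ b = b → dW C ρ (39 :: 47 :: SB) (sp C 39 b) = e := by
    intro b hb fb
    refine le_antisymm ?_ ?_
    · have := word_map C ρ [0] hw0 b
      rw [img_long C _ hp0] at this
      exact this.trans (e47 _ (hne _ (by norm_num) b hb) (wS_fix H _ _ _ fb)).le
    · have := word_map C ρ [0] hw0'.1 ((wS (flatW [0]) 47 : K) * b)
      rw [img_long C _ hw0'.2, hinv _ (by norm_num) b,
        e47 _ (hne _ (by norm_num) b hb) (wS_fix H _ _ _ fb)] at this
      exact this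
  have s1 := slices_eq C ρ hi3 (P := fun _ => (0 : K)) (fun _ _ _ => rfl)
  have s2 := slices_eq C ρ hi4 (P := fun _ => (0 : K)) (fun _ _ _ => rfl)
  rw [← sum_Fx C ρ _ _ (by norm_num) (by decide +kernel),
    ← Finset.add_sum_erase _ _ (zero_mem_Fx C)] at s1 s2
  simp only [upd_sp C, sp_zero'] at s1 s2
  rw [Finset.sum_congr rfl fun b hb => f46 b (Finset.ne_of_mem_erase hb)
    ((mem_Fx C).1 (Finset.mem_of_mem_erase hb))] at s2
  rw [Finset.sum_congr rfl fun b hb => (e39 b (Finset.ne_of_mem_erase hb)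
    ((mem_Fx C).1 (Finset.mem_of_mem_erase hb))).trans ef] at s1
  -- the lowest line sits above the common fixed space
  have cA : ∀ P, dW C ρ (46 :: 39 :: 47 :: SB) P = dW C ρ AU P := fun P =>
    dW_congr C ρ (fun y => by rw [← hAU]; simp only [List.mem_cons]; tauto) fun _ _ => rfl
  have cA' : ∀ P, dW C ρ (39 :: 46 :: 47 :: SB) P = dW C ρ AU P := fun P =>
    dW_congr C ρ hAU fun _ _ => rfl
  have low := slices_ge C ρ (x := 46) (S := 39 :: 47 :: SB) (P := fun _ => (0 : K)) h46 (e := 1)
    fun b fb hb => by rw [upd_sp C, cA]; exact H.low_fixed hb fb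
  rw [upd_sp C, sp_zero', cA, mul_one] at low
  have top := slices_eq C ρ hi5 (P := fun _ => (0 : K)) (fun _ _ _ => rfl)
  rw [← sum_Fx C ρ _ _ (by norm_num) (by decide +kernel),
    ← Finset.add_sum_erase _ _ (zero_mem_Fx C)] at top
  simp only [upd_sp C, sp_zero', cA'] at top
  by_contra hc
  have hz : ∑ b ∈ (Fx C).erase 0, dW C ρ AU (sp C 39 b) = 0 := Finset.sum_eq_zero fun b hb => by
    rw [scale_eq C ρ (by decide +kernel) (Or.inr c39) (Finset.ne_of_mem_erase hb) ha
      ((mem_Fx C).1 (Finset.mem_of_mem_erase hb)) fa]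
    omega
  have := two_le C
  omega

theorem Small.level {L : List (Fin 4)} {top : ℕ} {base ext : List ℕ} {R : List (ℕ × ℕ)} {w : ℕ}
    (h : lvlOK L top base ext R w = true) :
    dW C ρ (top :: base) (fun _ => (0 : K)) + (q - 1) * q ^ w ≤
      dW C ρ base (fun _ => (0 : K)) := by
  simp only [lvlOK, Bool.and_eq_true, decide_eq_true_eq] at h
  obtain ⟨⟨⟨htop, hnb, hne', hp, hw, hg, hbe, hkeep⟩, hext⟩, hcnt⟩ := h
  have := slices_ge C ρ (x := top) (S := base) (P := fun _ => (0 : K)) hnb (e := q ^ w)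
    fun b fb hb => by
      rw [upd_sp C, ← hg]
      have hs := wS_sq (F := K) (flatW L) (show 39 < 72 by norm_num)
      have hpos : 0 < dW C ρ (top :: base) (sp C top b) := by
        have := word_map C ρ L hw ((wS (flatW L) 39 : K) * b)
        rw [img_long C _ hp, ← mul_assoc, hs, one_mul] at this
        refine lt_of_lt_of_le (H.levi_pos (fun e => hb ?_) (wS_fix H _ _ _ fb)) this
        have := congrArg ((wS (flatW L) 39 : K) * ·) e
        simpa [← mul_assoc, hs] using this
      obtain ⟨P, hP, hZ, hpos'⟩ := extend C ρ hext (P := sp C top b)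
        (fun z hz => sp_ne C b fun e => hnb (e ▸ hz)) hpos (S := ext ++ top :: base)
        fun y hy => List.mem_append.1 hy
      have ht : P top = b := by rw [hP top List.mem_cons_self, sp_self]
      have hc := count_le C ρ hcnt hkeep (P := P) (fun y hy hn => by
        simp only [List.mem_cons, not_or] at hn
        simp only [List.mem_append, List.mem_cons] at hy
        rcases hy with hy | hy | hy
        exacts [absurd hy hn.2, absurd hy hn.1, hZ y hy]) (by rwa [ht])
      rw [dW_congr C ρ (S := top :: base) (P' := sp C top b) (fun _ => Iff.rfl) hP] at hc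
      exact le_trans (Nat.le_mul_of_pos_right _ hpos') hc
  rw [upd_sp C, sp_zero'] at this
  exact this

/-- The count. -/
theorem Small.count_all : bnd q ≤ finrank ℂ V + 2 := by
  classical
  have htop := slices_ge C ρ (x := 71) (S := []) (P := fun _ => (0 : K)) (by simp) (e := q ^ 10)
    fun b fb hb => by rw [upd_sp C]; exact H.top_ge hb fb
  rw [dW_nil, upd_sp C, sp_zero'] at htop
  have hcells := H.cells_sum chk_cells
  obtain ⟨hl1, hl2, hl3⟩ := chk_levels
  have l1 := H.level hl1
  have l2 := H.level hl2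
  have l3 := H.level hl3
  have key : bnd q = (q - 1) * q ^ 10 + (q - 1) * (cells.map fun c => q ^ c.2.2.2).sum +
      (q - 1) * q ^ 4 + (q - 1) * q ^ 2 + (q - 1) * q ^ 0 + 2 := by
    have hq := two_le C
    zify [show 1 ≤ q by omega]
    rw [bnd_eq hq]
    simp only [cells, List.map_cons, List.map_nil, List.sum_cons, List.sum_nil]
    push_cast
    ring
  omega

end CfsgLib.E6TwMinDeg
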