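import Cfsg.Agent.E6TwMinDeg.Space

/-!
Weyl and torus elements of `²E₆(q)` carrying common eigenspaces to one another.
-/

set_option autoImplicit false
set_option linter.unusedSectionVars false
set_option linter.style.haveILetI false
set_option linter.unusedSimpArgs false

namespace CfsgLib.E6TwMinDeg

open Cfsg.Lie CfsgLib.Chev CfsgLib.Chev.Tab CfsgLib.E6MinDeg Module CfsgLib.MinDeg
open scoped MatrixGroups

/-- The fundamental roots of an orbit. -/
def orbF : Fin 4 → List (Fin 6)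
  | 0 => [1]
  | 1 => [3]
  | 2 => [2, 4]
  | 3 => [0, 5]

/-- A word of orbits as a word of fundamental roots. -/
def flatW (L : List (Fin 4)) : List (Fin 6) := L.flatMap orbF

/-- The image of the chosen root of an orbit under a word. -/
def rpW (L : List (Fin 4)) (x : ℕ) : ℕ := rp (wR (flatW L) x)

/-- A word carries `S` onto a list containing `S'`, and only `x₀` to `y₀`. -/
def WordOK (L : List (Fin 4)) (S S' : List ℕ) (x₀ y₀ : ℕ) : Prop :=
  (∀ x ∈ S, x < 72 ∧ piN (wR (flatW L) x) = wR (flatW L) (piN x) ∧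
    wS (flatW L) (piN x) * cs x = wS (flatW L) x * cs (wR (flatW L) x) ∧
    (rpW L x = y₀ ↔ x = x₀)) ∧
  ∀ y ∈ S', ∃ x ∈ S, rpW L x = y

instance (L : List (Fin 4)) (S S' : List ℕ) (x₀ y₀ : ℕ) : Decidable (WordOK L S S' x₀ y₀) :=
  inferInstanceAs (Decidable (_ ∧ _))

theorem chk_cart1 : ∀ s ∈ List.range 72, T6.cart 1 (piN s) = T6.cart 1 s := by decide +kernel

variable {K : Type*} [Field K] [Fintype K] {q : ℕ} (C : E6Tw.Ctx K q)
  {V : Type*} [AddCommGroup V] [Module ℂ V] [FiniteDimensional ℂ V]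
  (ρ : Representation ℂ C.Z.G1 V)
include C

/-- An orbit as an index of the twisted group. -/
def jx (_C : E6Tw.Ctx K q) (j : Fin 4) : Fin _C.Z.nJ := ⟨j.val, j.isLt⟩

/-- The representative of a word. -/
noncomputable def nG : List (Fin 4) → C.Z.G1
  | [] => 1
  | j :: L => ⟨C.Z.n (jx C j), C.Z.n_mem _⟩ * nG L

theorem coe_n (j : Fin 4) : C.Z.n (jx C j) = (nW (F := K) (orbF j) : GL chevE6.Idx K) := by
  show good_E6.full.nw K (good_E6.oJ E6Tw.orbs ⟨j.val, j.isLt⟩) = _
  rw [C.A.n_eq]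
  have h1 : (1 : ℕ) < chevE6.rank ∧ 3 < chevE6.rank ∧ 2 < chevE6.rank ∧ 4 < chevE6.rank ∧
      0 < chevE6.rank ∧ 5 < chevE6.rank := by decide
  fin_cases j <;>
    simp [orbF, nW, nF, nT, jx, Good.oJ, E6Tw.orbs, toFins, List.filterMap_cons, h1] <;> rfl

theorem nW_append : ∀ L L' : List (Fin 6),
    nW (F := K) (L ++ L') = nW L * nW L'
  | [], L' => by simp [nW]
  | i :: L, L' => by simp [nW, nW_append L L', mul_assoc]

theorem coe_nG : ∀ L : List (Fin 4),
    (nG C L : GL chevE6.Idx K) = (nW (F := K) (flatW L) : GL chevE6.Idx K)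
  | [] => by simp [nG, flatW, nW]
  | j :: L => by
    show C.Z.n (jx C j) * (nG C L : GL chevE6.Idx K) = _
    rw [coe_n C, coe_nG L]
    simp only [flatW, List.flatMap_cons, nW_append C]
    rfl

theorem nG_conj (L : List (Fin 4)) {x : ℕ} (hx : x < 72)
    (h1 : piN (wR (flatW L) x) = wR (flatW L) (piN x))
    (h2 : wS (flatW L) (piN x) * cs x = wS (flatW L) x * cs (wR (flatW L) x)) (t : K) :
    nG C L * y C x t * (nG C L)⁻¹ = y C (wR (flatW L) x) ((wS (flatW L) x : K) * t) := by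
  have hw := wR_lt (flatW L) hx
  obtain ⟨hp, hpp, -⟩ := map_spec hx
  refine lift_eq C (A := nW (flatW L) * yA C x t * (nW (flatW L))⁻¹)
    (B := yA C (wR (flatW L) x) ((wS (flatW L) x : K) * t)) ?_ ?_ ?_
  · simp [coe_nG C, coe_y C hx]
  · exact coe_y C hw _
  · by_cases h : piN x = x
    · rw [yA_long C h, nW_conj _ hx, yA_long C (by rw [h1, h]), map_mul, map_intCast, mul_add]
    · have h' : piN (wR (flatW L) x) ≠ wR (flatW L) x := by
        rw [h1]; exact fun e => h (wR_inj _ hp hx e)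
      rw [yA_short C h, yA_short C h', ← conj_mul, nW_conj _ hx, nW_conj _ hp, h1, map_mul,
        map_intCast]
      congr 2
      have h2' : (wS (flatW L) (piN x) : K) * (cs x : K) =
          (wS (flatW L) x : K) * (cs (wR (flatW L) x) : K) := by
        exact_mod_cast congrArg (fun z : ℤ => (z : K)) h2
      linear_combination C.φ t * h2'

/-- A function supported at one root. -/
def sp (_C : E6Tw.Ctx K q) (μ : ℕ) (a : K) (x : ℕ) : K := if x = μ then a else 0

theorem sp_self (μ : ℕ) (a : K) : sp C μ a μ = a := if_pos rfl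

theorem sp_ne {μ x : ℕ} (a : K) (h : x ≠ μ) : sp C μ a x = 0 := if_neg h

theorem sp_zero (μ x : ℕ) : sp C μ (0 : K) x = 0 := by unfold sp; split <;> rfl

/-- The value carried by a word. -/
noncomputable def img (_C : E6Tw.Ctx K q) (L : List (Fin 4)) (x₀ : ℕ) (a : K) : K :=
  if piN (wR (flatW L) x₀) < wR (flatW L) x₀ then
    (cs (wR (flatW L) x₀) : K) * (wS (flatW L) x₀ : K) * _C.φ a
  else (wS (flatW L) x₀ : K) * a

theorem img_zero (L : List (Fin 4)) (x₀ : ℕ) : img C L x₀ 0 = 0 := by simp [img]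

theorem img_long (L : List (Fin 4)) {x₀ : ℕ} (h : piN (wR (flatW L) x₀) = wR (flatW L) x₀) (a : K) :
    img C L x₀ a = (wS (flatW L) x₀ : K) * a := by simp [img, h]

/-- A word carries an eigenspace with one non-zero character to another one. -/
theorem word_map (L : List (Fin 4)) {S S' : List ℕ} {x₀ y₀ : ℕ} (hL : WordOK L S S' x₀ y₀)
    (a : K) : dW C ρ S (sp C x₀ a) ≤ dW C ρ S' (sp C y₀ (img C L x₀ a)) := by
  set a' : K := img C L x₀ a with ha'
  by_cases h0 : x₀ ∈ S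
  swap
  · refine dW_le_of_maps C ρ (nG C L) fun v hv => (mem_W C ρ).2 fun z hz u => ?_
    obtain ⟨x, hx, rfl⟩ := hL.2 z hz
    obtain ⟨hx72, h1, h2, h3⟩ := hL.1 x hx
    have hne : x ≠ x₀ := fun e => h0 (e ▸ hx)
    rw [sp_ne C a' fun e => hne (h3.1 e), zero_mul, AddChar.map_zero_eq_one]
    obtain ⟨u', hu⟩ : ∃ u', y C (rpW L x) u = y C (wR (flatW L) x) u' := by
      unfold rpW rp
      split
      · exact ⟨_, y_pi C (wR_lt _ hx72) u⟩
      · exact ⟨u, rfl⟩
    have hε := wS_sq (F := K) (flatW L) hx72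
    refine eigen_translate ρ (y := y C x ((wS (flatW L) x : K) * u')) ?_ ?_
    · rw [hu, mul_inv_eq_iff_eq_mul.mp (nG_conj C L hx72 h1 h2 ((wS (flatW L) x : K) * u')),
        ← mul_assoc, hε, one_mul]
    · rw [(mem_W C ρ).1 hv x hx, sp_ne C a hne, zero_mul, AddChar.map_zero_eq_one]
  refine dW_le_of_maps C ρ (nG C L) fun v hv => (mem_W C ρ).2 fun z hz u => ?_
  obtain ⟨x, hx, rfl⟩ := hL.2 z hz
  obtain ⟨hx72, h1, h2, h3⟩ := hL.1 x hx
  have hw := wR_lt (flatW L) hx72
  have hε := wS_sq (F := K) (flatW L) hx72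
  obtain ⟨u', hu, hval⟩ : ∃ u', y C (rpW L x) u = y C (wR (flatW L) x) u' ∧
      Ψ C (sp C x₀ a x * ((wS (flatW L) x : K) * u')) = Ψ C (sp C y₀ a' (rpW L x) * u) := by
    by_cases hxx : x = x₀
    · subst hxx
      rw [h3.2 rfl, sp_self, sp_self, ← h3.2 rfl]
      unfold rpW rp
      simp only [ha', img]
      split
      · refine ⟨_, y_pi C hw u, ?_⟩
        rw [← Ψ_φ C (a * _), map_mul C.φ, map_mul C.φ, map_mul C.φ, map_intCast, map_intCast,
          φφ C]
        congr 1; ring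
      · exact ⟨u, rfl, by congr 1; ring⟩
    · rw [sp_ne C a hxx, sp_ne C a' fun e => hxx (h3.1 e)]
      simp only [zero_mul, AddChar.map_zero_eq_one, and_true]
      unfold rpW rp
      split
      · exact ⟨_, y_pi C hw u⟩
      · exact ⟨u, rfl⟩
  refine eigen_translate ρ (y := y C x ((wS (flatW L) x : K) * u')) ?_ ?_
  · rw [hu, mul_inv_eq_iff_eq_mul.mp (nG_conj C L hx72 h1 h2 ((wS (flatW L) x : K) * u')),
      ← mul_assoc, hε, one_mul]
  · rw [(mem_W C ρ).1 hv x hx, hval]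

/-- A word carries a fixed space to another one. -/
theorem word_zero (L : List (Fin 4)) {S S' : List ℕ} (hL : WordOK L S S' 99 99) :
    dW C ρ S (fun _ => (0 : K)) ≤ dW C ρ S' (fun _ => (0 : K)) := by
  have h := word_map C ρ L hL (0 : K)
  rw [img_zero] at h
  have e : sp C 99 (0 : K) = fun _ => 0 := funext (sp_zero C 99)
  rwa [e] at h

theorem node_mem {u : Kˣ} (hu : u ^ q = u) :
    (Pi.mulSingle (ix 1) u : Fin chevE6.rank → Kˣ) ∈ C.A.Cσ := by
  refine C.mem_Cσ.mpr fun i => ?_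
  have key : ∀ k : Fin chevE6.rank, (Pi.mulSingle (ix 1) u : Fin chevE6.rank → Kˣ) k =
      if k.val = 1 then u else 1 := fun k => by
    rw [Pi.mulSingle_apply]
    exact if_congr ⟨fun h => by rw [h]; rfl, fun h => Fin.ext h⟩ rfl rfl
  refine (key _).trans (Eq.trans ?_ (congrArg (· ^ q) (key i).symm))
  fin_cases i <;> simp [hu]

/-- The torus element of the end node. -/
noncomputable def tU (C : E6Tw.Ctx K q) {u : Kˣ} (hu : u ^ q = u) : C.Z.G1 :=
  ⟨T6.hT K (Pi.mulSingle (ix 1) u), C.Z.H0_le (C.A.hT_mem_torus (node_mem C hu))⟩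

theorem tU_conj {u : Kˣ} (hu : u ^ q = u) {x : ℕ} (hx : x < 72) (t : K) :
    tU C hu * y C x t * (tU C hu)⁻¹ = y C x (((u ^ T6.cart 1 x : Kˣ) : K) * t) := by
  obtain ⟨hp, -⟩ := map_spec hx
  have hc := chk_cart1 x (List.mem_range.2 hx)
  have hfix : C.φ ((u ^ T6.cart 1 x : Kˣ) : K) = ((u ^ T6.cart 1 x : Kˣ) : K) := by
    rw [C.hφ, ← Units.val_pow_eq_pow_val, ← zpow_natCast, ← _root_.zpow_mul, mul_comm,
      _root_.zpow_mul, zpow_natCast, hu]
  refine lift_eq C (A := tor 1 u * yA C x t * (tor 1 u)⁻¹)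
    (B := yA C x (((u ^ T6.cart 1 x : Kˣ) : K) * t)) ?_ ?_ ?_
  · simp [coe_y C hx]; rfl
  · exact coe_y C hx _
  · by_cases h : piN x = x
    · rw [yA_long C h, yA_long C h, tor_conj 1 hx, map_mul, hfix, ← mul_add]
      rfl
    · rw [yA_short C h, yA_short C h, ← conj_mul, tor_conj 1 hx, tor_conj 1 hp, map_mul, hfix,
        show T6.cart (1 : Fin 6).val (piN x) = T6.cart 1 x from hc]
      congr 2
      ring

/-- The torus element scales the characters. -/
theorem torus_map {u : Kˣ} (hu : u ^ q = u) {S : List ℕ} {P P' : ℕ → K}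
    (h : ∀ x ∈ S, x < 72 ∧ P' x = P x * ((u ^ (-T6.cart 1 x) : Kˣ) : K)) :
    dW C ρ S P ≤ dW C ρ S P' := by
  refine dW_le_of_maps C ρ (tU C hu) fun v hv => (mem_W C ρ).2 fun x hx w => ?_
  obtain ⟨hx72, hP⟩ := h x hx
  refine eigen_translate ρ (y := y C x (((u ^ (-T6.cart 1 x) : Kˣ) : K) * w)) ?_ ?_
  · have := mul_inv_eq_iff_eq_mul.mp (tU_conj C hu hx72 (((u ^ (-T6.cart 1 x) : Kˣ) : K) * w))
    rw [← mul_assoc, ← Units.val_mul, ← _root_.zpow_add, add_neg_cancel, _root_.zpow_zero,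
      Units.val_one, one_mul] at this
    exact this.symm
  · rw [(mem_W C ρ).1 hv x hx, hP, mul_assoc]

/-- The eigenspace with one non-zero value at a root of weight `±1` for the end node does not
depend on the value. -/
theorem scale {S : List ℕ} (hS : ∀ x ∈ S, x < 72) {μ : ℕ}
    (hμ : T6.cart 1 μ = 1 ∨ T6.cart 1 μ = -1) {a b : K} (ha : a ≠ 0) (hb : b ≠ 0)
    (fa : C.φ a = a) (fb : C.φ b = b) :
    dW C ρ S (sp C μ a) ≤ dW C ρ S (sp C μ b) := by
  have mk : ∀ {c : K} (hc : c ≠ 0), C.φ c = c → Units.mk0 c hc ^ q = Units.mk0 c hc := fun hc h =>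
    Units.ext (by rw [Units.val_pow_eq_pow_val, Units.val_mk0, ← C.hφ, h])
  set v : Kˣ := Units.mk0 b hb / Units.mk0 a ha
  have hv : v ^ q = v := by rw [div_pow, mk hb fb, mk ha fa]
  have hgoal : ∀ {u : Kˣ}, u ^ q = u → ((u ^ (-T6.cart 1 μ) : Kˣ) : K) * a = b →
      dW C ρ S (sp C μ a) ≤ dW C ρ S (sp C μ b) := fun {u} hu e =>
    torus_map C ρ hu fun x hx => ⟨hS x hx, by
      by_cases h : x = μ
      · subst h; rw [sp_self, sp_self, ← e, mul_comm]
      · rw [sp_ne C a h, sp_ne C b h, zero_mul]⟩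
  rcases hμ with h | h
  · refine hgoal (u := v⁻¹) (by rw [inv_pow, hv]) ?_
    rw [h]; simp [v, div_mul_cancel₀, ha]
  · refine hgoal (u := v) hv ?_
    rw [h]; simp [v, div_mul_cancel₀, ha]

end CfsgLib.E6TwMinDeg
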