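import Cfsg.Agent.E6TwMinDeg.Swap

/-!
Common eigenspaces of root subgroups of `²E₆(q)`, translation by root elements and slicing.
-/

set_option autoImplicit false
set_option linter.unusedSectionVars false
set_option linter.style.haveILetI false
set_option linter.unusedSimpArgs false

namespace CfsgLib.E6TwMinDeg

open Cfsg.Lie CfsgLib.Chev CfsgLib.Chev.Tab CfsgLib.E6MinDeg Module CfsgLib.MinDeg
open scoped MatrixGroups

/-- The chosen root of an orbit. -/
def rp (x : ℕ) : ℕ := if piN x < x then piN x else x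

/-- The roots met when `x` is moved past `r`. -/
def srcs (r x : ℕ) : List ℕ :=
  if x = r ∨ x = piN r then []
  else if piN x = x then
    if sgnR r x = 0 then []
    else if piN r = r then [rp (tgtR r x)]
    else [rp (tgtR r x), rp (tgtR (piN r) (tgtR r x))]
  else if piN r = r then (if sgnR r x = 0 then [] else [rp (tgtR r x)])
  else (if sgnR r x = 0 then [] else [rp (tgtR r x)]) ++
    (if sgnR (piN r) x = 0 then [] else [rp (tgtR (piN r) x)])

/-- The root met quadratically in the parameter of `x`. -/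
def quad (r x : ℕ) : List ℕ :=
  if piN r = r ∧ piN x ≠ x ∧ sgnR r x ≠ 0 ∧ sgnR (piN x) (tgtR r x) ≠ 0 then
    [rp (tgtR (piN x) (tgtR r x))] else []

/-- The root elements at `r` can be moved past those of `S'`, meeting only `S`; the quadratic
terms only meet `Z`. -/
def Mov (r : ℕ) (S' S Z : List ℕ) : Prop :=
  r < 72 ∧ ∀ x ∈ S', x < 72 ∧ (x = r ∨ x = piN r ∨ apart r x = true) ∧
    (∀ z ∈ srcs r x, z ∈ S) ∧ ∀ z ∈ quad r x, z ∈ S ∧ z ∈ Z

instance (r : ℕ) (S' S Z : List ℕ) : Decidable (Mov r S' S Z) :=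
  inferInstanceAs (Decidable (_ ∧ _))

variable {K : Type*} [Field K] [Fintype K] {q : ℕ} (C : E6Tw.Ctx K q)
  {V : Type*} [AddCommGroup V] [Module ℂ V] [FiniteDimensional ℂ V]
  (ρ : Representation ℂ C.Z.G1 V)
include C

/-- The common eigenspace of root subgroups. -/
noncomputable def W (S : List ℕ) (P : ℕ → K) : Submodule ℂ V :=
  G2MinDeg.wt ρ (eY C) (Ψ C) (S.map fun x => (x, P x))

/-- Its dimension. -/
noncomputable def dW (S : List ℕ) (P : ℕ → K) : ℕ := finrank ℂ (W C ρ S P)

theorem mem_W {S : List ℕ} {P : ℕ → K} {v : V} :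
    v ∈ W C ρ S P ↔ ∀ x ∈ S, ∀ u, ρ (y C x u) v = Ψ C (P x * u) • v := by
  simp only [W, G2MinDeg.mem_wt, List.forall_mem_map, G2MinDeg.mem_eig, eY_apply]

theorem W_mono {S S' : List ℕ} {P P' : ℕ → K} (h : ∀ x ∈ S', x ∈ S ∧ P' x = P x) :
    W C ρ S P ≤ W C ρ S' P' := fun v hv => (mem_W C ρ).2 fun x hx u => by
  obtain ⟨h1, h2⟩ := h x hx
  rw [h2]
  exact (mem_W C ρ).1 hv x h1 u

theorem dW_mono {S S' : List ℕ} {P P' : ℕ → K} (h : ∀ x ∈ S', x ∈ S ∧ P' x = P x) :
    dW C ρ S P ≤ dW C ρ S' P' := Submodule.finrank_mono (W_mono C ρ h)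

theorem dW_congr {S S' : List ℕ} {P P' : ℕ → K} (h : ∀ x, x ∈ S ↔ x ∈ S')
    (hP : ∀ x ∈ S, P x = P' x) : dW C ρ S P = dW C ρ S' P' :=
  le_antisymm (dW_mono C ρ fun x hx => ⟨(h x).2 hx, (hP x ((h x).2 hx)).symm⟩)
    (dW_mono C ρ fun x hx => ⟨(h x).1 hx, hP x hx⟩)

theorem dW_le (S : List ℕ) (P : ℕ → K) : dW C ρ S P ≤ finrank ℂ V := Submodule.finrank_le _

theorem dW_pos_iff {S : List ℕ} {P : ℕ → K} :
    0 < dW C ρ S P ↔ ∃ v ∈ W C ρ S P, v ≠ 0 := by
  constructor
  · intro h
    exact Submodule.exists_mem_ne_zero_of_ne_bot fun hb => by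
      rw [dW, hb, finrank_bot] at h
      omega
  · rintro ⟨v, hv, hv0⟩
    rw [dW, Nat.pos_iff_ne_zero, Ne, Submodule.finrank_eq_zero]
    intro hb
    rw [hb, Submodule.mem_bot] at hv
    exact hv0 hv

/-- The value at the chosen root of an orbit, transported to any root of it. -/
noncomputable def PP (_C : E6Tw.Ctx K q) (P : ℕ → K) (z : ℕ) : K :=
  if piN z < z then (cs z : K) * _C.φ (P (piN z)) else P z

theorem eigen_at {S : List ℕ} {P : ℕ → K} {v : V} (hv : v ∈ W C ρ S P) {z : ℕ} (hz : z < 72)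
    (hS : rp z ∈ S) (w : K) : ρ (y C z w) v = Ψ C (PP C P z * w) • v := by
  obtain ⟨h1, h2, h3, -⟩ := map_spec hz
  by_cases h : piN z < z
  · have hS' : piN z ∈ S := by rwa [rp, if_pos h] at hS
    have e := y_pi C h1 w
    rw [h2, h3] at e
    rw [e, (mem_W C ρ).1 hv _ hS', PP, if_pos h, ← Ψ_φ C (P (piN z) * _)]
    congr 2
    rw [map_mul, map_mul, map_intCast, φφ C]; ring
  · have hS' : z ∈ S := by rwa [rp, if_neg h] at hS
    rw [(mem_W C ρ).1 hv _ hS', PP, if_neg h]

theorem PP_eq_zero {P : ℕ → K} {z : ℕ} (h : P (rp z) = 0) : PP C P z = 0 := by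
  unfold PP
  by_cases h' : piN z < z
  · rw [rp, if_pos h'] at h
    rw [if_pos h', h, map_zero, mul_zero]
  · rw [rp, if_neg h'] at h
    rw [if_neg h', h]

/-- The change of the character at `x` under a translation by `r`. -/
noncomputable def del (_C : E6Tw.Ctx K q) (r : ℕ) (t : K) (P : ℕ → K) (x : ℕ) : K :=
  if x = r ∨ x = piN r then 0
  else if piN x = x then
    if piN r = r then (sgnR r x : K) * tr _C t * tr _C (θ _C * PP _C P (tgtR r x))
    else tr _C ((sgnR r x : K) * t * PP _C P (tgtR r x)) -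
      (sgnR (piN r) (tgtR r x) : K) * (sgnR r x : K) * (cs r : K) * (t * _C.φ t) *
        tr _C (θ _C * PP _C P (tgtR (piN r) (tgtR r x)))
  else if piN r = r then (sgnR r x : K) * tr _C t * PP _C P (tgtR r x)
  else (sgnR r x : K) * t * PP _C P (tgtR r x) +
    (sgnR (piN r) x : K) * ((cs r : K) * _C.φ t) * PP _C P (tgtR (piN r) x)

/-- The characters of a translate. -/
noncomputable def mv (r : ℕ) (t : K) (P : ℕ → K) (x : ℕ) : K := P x - del C r t P x

theorem tr_scal {v : K} (hv : C.φ v = v) (a : K) : tr C (a * v) = tr C a * v := by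
  rw [tr_apply, tr_apply, map_mul, hv, add_mul]

theorem Ψ_tr_right (a u : K) : Ψ C (a * tr C u) = Ψ C (tr C a * u) := by
  rw [tr_apply, tr_apply, mul_add, add_mul, AddChar.map_add_eq_mul, AddChar.map_add_eq_mul]
  congr 1
  rw [← Ψ_φ C (a * C.φ u), map_mul, φφ C]

theorem Ψ_tr_scal (a k u : K) (hk : C.φ k = k) :
    Ψ C (a * (k * tr C u)) = Ψ C (tr C a * k * u) := by
  rw [← mul_assoc, Ψ_tr_right C, tr_scal C hk]

theorem move_target {r x : ℕ} {S' S Z : List ℕ} {P : ℕ → K} (hm : Mov r S' S Z)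
    (hZ : ∀ z ∈ Z, P z = 0) {v : V} (hv : v ∈ W C ρ S P) (hx : x ∈ S') (hxS : x ∈ S) (t u : K) :
    ∃ g : C.Z.G1, y C x u * y C r t = y C r t * g ∧
      ρ g v = Ψ C (mv C r t P x * u) • v := by
  obtain ⟨hr, hm⟩ := hm
  obtain ⟨hx72, hca, hsrc, hqd⟩ := hm x hx
  have self := (mem_W C ρ).1 hv x hxS
  by_cases same : x = r ∨ x = piN r
  · refine ⟨y C x u, ?_, by rw [self, mv, del, if_pos same, sub_zero]⟩
    rcases same with rfl | rfl
    · rw [y_add, y_add, add_comm]
    · rw [y_pi C hr, y_add, y_add, add_comm]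
  have ha : apart r x = true := (hca.resolve_left fun h => same (Or.inl h)).resolve_left
    fun h => same (Or.inr h)
  have two : ∀ (g : C.Z.G1) (c : K), ρ g v = Ψ C c • v → ∀ k : K, Ψ C c = Ψ C k →
      ρ (y C x u * g) v = Ψ C (P x * u + k) • v := fun g c hg k hk => by
    rw [map_mul, Module.End.mul_apply, hg, map_smul, self, smul_smul, hk,
      AddChar.map_add_eq_mul, mul_comm]
  have at0 : ∀ {z : ℕ} (w c : K), c = 0 → ρ (y C z (c * w)) v = Ψ C 0 • v := fun {z} w c hc => by
    rw [hc, zero_mul, y_zero, map_one, AddChar.map_zero_eq_one, one_smul, Module.End.one_apply]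
  obtain ⟨hr', -⟩ := map_spec hr
  by_cases px : piN x = x
  · by_cases pr : piN r = r
    · refine ⟨_, swap_LL C hr hx72 ha pr px t u, ?_⟩
      by_cases h0 : sgnR r x = 0
      · simp [mv, del, (not_or.1 same).1, (not_or.1 same).2, px, pr, h0, y_zero, self]
      have hz : rp (tgtR r x) ∈ S := hsrc _ (by simp [srcs, (not_or.1 same).1, (not_or.1 same).2, px, pr, h0])
      have hlt := tgt_lt C hr hx72 (apart_spec ha).1 h0
      rw [two _ _ (eigen_at C ρ hv hlt hz _) (-(del C r t P x * u)) ?_]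
      · congr 2; rw [mv]; ring
      · rw [show PP C P (tgtR r x) * (θ C * -((sgnR r x : K) * tr C t * tr C u)) =
            PP C P (tgtR r x) * θ C * ((-((sgnR r x : K) * tr C t)) * tr C u) by ring,
          Ψ_tr_scal C _ _ _ (by rw [map_neg, map_mul, map_intCast, φ_tr C]), del, if_neg same,
          if_pos px, if_pos pr, mul_comm (θ C)]
        congr 1; ring
    · refine ⟨_, swap_SL C hr hx72 ha pr px t u, ?_⟩
      by_cases h0 : sgnR r x = 0
      · simp [mv, del, (not_or.1 same).1, (not_or.1 same).2, px, pr, h0, y_zero, self]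
      have hz : rp (tgtR r x) ∈ S := hsrc _ (by simp [srcs, (not_or.1 same).1, (not_or.1 same).2, px, pr, h0])
      have hz2 : rp (tgtR (piN r) (tgtR r x)) ∈ S := hsrc _ (by simp [srcs, (not_or.1 same).1, (not_or.1 same).2, px, pr, h0])
      have hlt := tgt_lt C hr hx72 (apart_spec ha).1 h0
      have hk := chk_of C hr hx72
      simp only [chkPair, ha, px, pr, h0, Bool.not_true, Bool.false_or, if_true, if_false,
        decide_eq_true_eq] at hk
      have hlt2 := tgt_lt C hr' hlt (by have := hk.2.2.2.2.1; omega) hk.2.2.2.1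
      set a := PP C P (tgtR r x)
      set b := PP C P (tgtR (piN r) (tgtR r x))
      set k := (sgnR (piN r) (tgtR r x) : K) * (sgnR r x : K) * (cs r : K) * (t * C.φ t) with hkd
      have h2 : ρ (y C (tgtR r x) (-((sgnR r x : K) * t * tr C u)) *
          y C (tgtR (piN r) (tgtR r x)) (θ C * (k * tr C u))) v =
            Ψ C (a * (-((sgnR r x : K) * t * tr C u)) + b * (θ C * (k * tr C u))) • v := by
        rw [map_mul, Module.End.mul_apply, eigen_at C ρ hv hlt2 hz2, map_smul,
          eigen_at C ρ hv hlt hz, smul_smul, AddChar.map_add_eq_mul, mul_comm]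
      rw [two _ _ h2 (-(del C r t P x * u)) ?_]
      · congr 2; rw [mv]; ring
      · rw [del, if_neg same, if_pos px, if_neg pr, AddChar.map_add_eq_mul,
          show a * -((sgnR r x : K) * t * tr C u) = (-((sgnR r x : K) * t * a)) * tr C u by ring,
          Ψ_tr_right C, show b * (θ C * (k * tr C u)) = (θ C * b) * (k * tr C u) by ring,
          Ψ_tr_scal C _ k _ (by simp only [hkd, map_mul, map_intCast, φφ C]; ring),
          ← AddChar.map_add_eq_mul, map_neg]
        congr 1
        simp only [hkd, a, b]; ring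
  by_cases pr : piN r = r
  · refine ⟨_, swap_LS C hr hx72 ha pr px t u, ?_⟩
    by_cases h0 : sgnR r x = 0
    · simp [mv, del, (not_or.1 same).1, (not_or.1 same).2, px, pr, h0, y_zero, self]
    have hz : rp (tgtR r x) ∈ S := hsrc _ (by simp [srcs, (not_or.1 same).1, (not_or.1 same).2, px, pr, h0])
    have hlt := tgt_lt C hr hx72 (apart_spec ha).1 h0
    have hQ : ρ (y C (tgtR (piN x) (tgtR r x)) (θ C * ((sgnR (piN x) (tgtR r x) : K) *
        (sgnR r x : K) * (cs x : K) * tr C t * (u * C.φ u)))) v = v := by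
      by_cases hq : sgnR (piN x) (tgtR r x) = 0
      · simp [hq, y_zero]
      obtain ⟨hzS, hzZ⟩ := hqd (rp (tgtR (piN x) (tgtR r x))) (by simp [quad, pr, px, h0, hq])
      have hk := chk_of C hr hx72
      simp only [chkPair, ha, px, pr, h0, Bool.not_true, Bool.false_or, if_true, if_false,
        decide_eq_true_eq] at hk
      have hlt2 := tgt_lt C (map_spec hx72).1 hlt
        (by have := hk.2.2.2.2.1; have := (map_spec hx72).1; omega) hq
      rw [eigen_at C ρ hv hlt2 hzS, PP_eq_zero C (hZ _ hzZ), zero_mul, AddChar.map_zero_eq_one,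
        one_smul]
    have h2 : ρ (y C (tgtR r x) (-((sgnR r x : K) * tr C t * u)) *
        y C (tgtR (piN x) (tgtR r x)) (θ C * ((sgnR (piN x) (tgtR r x) : K) *
          (sgnR r x : K) * (cs x : K) * tr C t * (u * C.φ u)))) v =
        Ψ C (PP C P (tgtR r x) * (-((sgnR r x : K) * tr C t * u))) • v := by
      rw [map_mul, Module.End.mul_apply, hQ, eigen_at C ρ hv hlt hz]
    rw [two _ _ h2 (-(del C r t P x * u)) ?_]
    · congr 2; rw [mv]; ring
    · rw [del, if_neg same, if_neg px, if_pos pr]; congr 1; ring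
  by_cases h0 : sgnR r x = 0
  · have hk := chk_of C hr hx72
    simp only [chkPair, ha, px, pr, h0, Bool.not_true, Bool.false_or, if_true, if_false,
      Bool.and_eq_true, Bool.or_eq_true, decide_eq_true_eq] at hk
    obtain ⟨hk1, hk2⟩ := hk
    by_cases h1 : sgnR (piN r) x = 0
    · rcases hk2 with ⟨e1, -⟩ | ⟨-, e2⟩
      · refine ⟨y C x u, swap_zero C hr hx72 ha ⟨h0, e1, h1, hk1⟩ t u, ?_⟩
        simp [mv, del, (not_or.1 same).1, (not_or.1 same).2, px, pr, h0, h1, self]
      · exact absurd h1 e2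
    obtain ⟨h2, h3, h4, -, h5, -⟩ := map_spec hr
    have ha' : apart (piN r) x = true := by
      obtain ⟨o1, o2, o3, o4, o5⟩ := apart_spec ha
      obtain ⟨-, -, -, o6⟩ := opp_spec C hr hx72 ha
      simp only [apart, h3, Bool.and_eq_true, Bool.not_eq_true', ← Bool.not_eq_true, Nat.beq_eq]
      exact ⟨⟨⟨⟨o3, o6⟩, o1⟩, o5⟩, o4⟩
    have pr' : piN (piN r) ≠ piN r := by rw [h3]; exact fun e => pr e.symm
    set t' := (cs r : K) * C.φ t with ht'
    have er : y C r t = y C (piN r) t' := by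
      have := y_pi C h2 t
      rwa [h3, h4] at this
    refine ⟨_, by rw [er]; exact swap_SS C h2 hx72 ha' pr' px h1 t' u, ?_⟩
    have hz : rp (tgtR (piN r) x) ∈ S := hsrc _ (by simp [srcs, (not_or.1 same).1, (not_or.1 same).2, px, pr, h0, h1])
    have hlt := tgt_lt C h2 hx72 (apart_spec ha').1 h1
    rw [two _ _ (eigen_at C ρ hv hlt hz _) (-(del C r t P x * u)) ?_]
    · congr 2; rw [mv]; ring
    · rw [del, if_neg same, if_neg px, if_neg pr, h0, ht']
      congr 1; push_cast; ring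
  refine ⟨_, swap_SS C hr hx72 ha pr px h0 t u, ?_⟩
  have hz : rp (tgtR r x) ∈ S := hsrc _ (by simp [srcs, (not_or.1 same).1, (not_or.1 same).2, px, pr, h0])
  have hlt := tgt_lt C hr hx72 (apart_spec ha).1 h0
  have hk := chk_of C hr hx72
  simp only [chkPair, ha, px, pr, h0, Bool.not_true, Bool.false_or, if_false,
    decide_eq_true_eq] at hk
  rw [two _ _ (eigen_at C ρ hv hlt hz _) (-(del C r t P x * u)) ?_]
  · congr 2; rw [mv]; ring
  · rw [del, if_neg same, if_neg px, if_neg pr, hk.2.1]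
    congr 1; push_cast; ring

/-- A translate of an eigenvector. -/
theorem translate {r : ℕ} {S' S Z : List ℕ} {P : ℕ → K} (hm : Mov r S' S Z)
    (hZ : ∀ z ∈ Z, P z = 0) (hS : ∀ x ∈ S', x ∈ S) (t : K) {v : V} (hv : v ∈ W C ρ S P) :
    ρ (y C r t) v ∈ W C ρ S' (mv C r t P) := by
  refine (mem_W C ρ).2 fun x hx u => ?_
  obtain ⟨g, hg, hgv⟩ := move_target C ρ hm hZ hv hx (hS x hx) t u
  exact eigen_translate ρ hg hgv

theorem dW_le_of_maps {S S' : List ℕ} {P P' : ℕ → K} (g : C.Z.G1)
    (h : ∀ v ∈ W C ρ S P, ρ g v ∈ W C ρ S' P') : dW C ρ S P ≤ dW C ρ S' P' := by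
  refine LinearMap.finrank_le_finrank_of_injective (f := (ρ g).restrict h) fun a b hab => ?_
  refine Subtype.ext (sub_eq_zero.1 ?_)
  by_contra hne
  refine rho_inj ρ (g := g) hne ?_
  rw [map_sub, sub_eq_zero]
  exact congrArg Subtype.val hab

/-- Different slices are independent. -/
theorem sum_le (r : ℕ) (S : List ℕ) (P : ℕ → K) (hr : r ∉ S) (s : Finset K) :
    ∑ a ∈ s, dW C ρ (r :: S) (Function.update P r a) ≤ dW C ρ S P := by
  classical
  have hmem : ∀ (a : K) (w : W C ρ (r :: S) (Function.update P r a)),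
      (w : V) ∈ W C ρ S P ∧ (w : V) ∈ weight ρ (eY C r) ((Ψ C).mulShift a) := fun a w => by
    refine ⟨(mem_W C ρ).2 fun x hx u => ?_, fun u => ?_⟩
    · have := (mem_W C ρ).1 w.2 x (List.mem_cons_of_mem _ hx) u
      rwa [Function.update_of_ne fun e => hr (by rw [← e]; exact hx)] at this
    · have := (mem_W C ρ).1 w.2 r List.mem_cons_self u
      rwa [Function.update_self] at this
  let f : (∀ a : s, W C ρ (r :: S) (Function.update P r a.1)) →ₗ[ℂ] W C ρ S P :=
    { toFun := fun w => ⟨∑ a, (w a : V), Submodule.sum_mem _ fun a _ => (hmem _ (w a)).1⟩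
      map_add' := fun w w' => Subtype.ext (by simp [Finset.sum_add_distrib])
      map_smul' := fun c w => Subtype.ext (by simp [Finset.smul_sum]) }
  have hf : Function.Injective f := by
    intro w w' h
    funext b
    refine Subtype.ext ?_
    have h' := congrArg (fun z : W C ρ S P => proj ρ (eY C r) ((Ψ C).mulShift b.1) (z : V)) h
    have key : ∀ w : ∀ a : s, W C ρ (r :: S) (Function.update P r a.1),
        proj ρ (eY C r) ((Ψ C).mulShift b.1) (∑ a, (w a : V)) = w b := fun w => by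
      rw [map_sum, Finset.sum_eq_single b]
      · rw [proj_of_mem ρ _ (hmem _ (w b)).2, if_pos rfl]
      · intro a _ hab
        rw [proj_of_mem ρ _ (hmem _ (w a)).2, if_neg]
        exact fun e => hab (Subtype.ext (AddChar.to_mulShift_inj_of_isPrimitive (Ψ_prim C) e))
      · simp
    exact (key w).symm.trans (h'.trans (key w'))
  have := LinearMap.finrank_le_finrank_of_injective hf
  rwa [Module.finrank_pi_fintype, Finset.sum_coe_sort s
    fun a => finrank ℂ (W C ρ (r :: S) (Function.update P r a))] at this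

/-- The slices of an invariant space fill it. -/
theorem sum_eq {r : ℕ} {S Z : List ℕ} {P : ℕ → K} (hr : r ∉ S) (hm : Mov r S S Z)
    (hZ : ∀ z ∈ Z, P z = 0) (h0 : ∀ t, ∀ x ∈ S, del C r t P x = 0) :
    ∑ a : K, dW C ρ (r :: S) (Function.update P r a) = dW C ρ S P := by
  have hinv : ∀ t, ∀ v ∈ G2MinDeg.wt ρ (eY C) (Ψ C) (S.map fun x => (x, P x)),
      ρ (eY C r (Multiplicative.ofAdd t)) v ∈
        G2MinDeg.wt ρ (eY C) (Ψ C) (S.map fun x => (x, P x)) := fun t v hv =>
    W_mono C ρ (P := mv C r t P) (fun x hx => ⟨hx, by rw [mv, h0 t x hx, sub_zero]⟩)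
      (translate C ρ hm hZ (fun _ h => h) t hv)
  unfold dW W
  rw [← G2MinDeg.sum_slices ρ (eY C) (Ψ C) (Ψ_prim C) hinv]
  refine Finset.sum_congr rfl fun a _ => ?_
  rw [show List.map (fun x => (x, Function.update P r a x)) (r :: S) =
      (r, a) :: S.map fun x => (x, P x) by
    rw [List.map_cons, Function.update_self, List.map_congr_left fun x hx =>
      show (x, Function.update P r a x) = (x, P x) by
        rw [Function.update_of_ne fun e => hr (by rw [← e]; exact hx)]]]

/-- At a fixed root only fixed values occur. -/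
theorem valid {S : List ℕ} {P : ℕ → K} (h : 0 < dW C ρ S P) {x : ℕ} (hx : x ∈ S) (hlt : x < 72)
    (px : piN x = x) : C.φ (P x) = P x := by
  obtain ⟨v, hv, hv0⟩ := (dW_pos_iff C ρ).1 h
  by_contra hne
  refine (Ψ_prim C) (sub_ne_zero.2 (Ne.symm hne)) ?_
  ext w
  rw [AddChar.mulShift_apply, AddChar.one_apply, sub_mul, AddChar.map_sub_eq_div]
  have h1 := (mem_W C ρ).1 hv x hx w
  have e : y C x (C.φ w) = y C x w := y_long_eq C hlt px (by rw [tr_apply, tr_apply, φφ C, add_comm])
  rw [← e, (mem_W C ρ).1 hv x hx, ← Ψ_φ C (P x * C.φ w), map_mul, φφ C] at h1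
  have h2 := smul_left_injective ℂ hv0 h1
  rw [← h2, div_self]
  intro h3
  have h4 := AddChar.map_add_eq_mul (Ψ C) (C.φ (P x) * w) (-(C.φ (P x) * w))
  rw [add_neg_cancel, AddChar.map_zero_eq_one, h3, zero_mul] at h4
  exact one_ne_zero h4

end CfsgLib.E6TwMinDeg
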