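import Cfsg.Agent.E6TwMinDeg.Field

/-!
Moving a root element of an orbit past another one.
-/

set_option autoImplicit false
set_option linter.unusedSectionVars false
set_option linter.style.haveILetI false

namespace CfsgLib.E6TwMinDeg

open Cfsg.Lie CfsgLib.Chev CfsgLib.Chev.Tab CfsgLib.E6MinDeg
open scoped MatrixGroups

/-- Two roots of different orbits which are not opposite. -/
def apart (r x : ℕ) : Bool :=
  !(Nat.beq x (71 - r)) && !(Nat.beq (piN x) (71 - r)) && !(Nat.beq x (71 - piN r)) &&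
    !(Nat.beq x r) && !(Nat.beq x (piN r))

/-- The shape of the commutator of two orbits of roots. -/
def chkPair (r x : ℕ) : Bool :=
  !(apart r x) ||
  if piN x = x then
    if piN r = r then decide (sgnR r x = 0) || decide (piN (tgtR r x) = tgtR r x)
    else
      if sgnR r x = 0 then decide (sgnR (piN r) x = 0)
      else
        decide (piN (tgtR r x) ≠ tgtR r x ∧ tgtR (piN r) x = piN (tgtR r x) ∧
          sgnR (piN r) x * cs r = sgnR r x * cs (tgtR r x) ∧
          sgnR (piN r) (tgtR r x) ≠ 0 ∧ piN r ≠ 71 - tgtR r x ∧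
          piN (tgtR (piN r) (tgtR r x)) = tgtR (piN r) (tgtR r x))
  else
    if piN r = r then
      if sgnR r x = 0 then decide (sgnR r (piN x) = 0)
      else
        decide (piN (tgtR r x) ≠ tgtR r x ∧ tgtR r (piN x) = piN (tgtR r x) ∧
          sgnR r (piN x) * cs x = sgnR r x * cs (tgtR r x) ∧
          (sgnR (piN x) (tgtR r x) = 0 ∨ piN (tgtR (piN x) (tgtR r x)) = tgtR (piN x) (tgtR r x)) ∧
          piN x ≠ 71 - tgtR r x ∧ tgtR r x < 72)
    else
      if sgnR r x = 0 then
        decide (sgnR (piN r) (piN x) = 0) &&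
          (decide (sgnR r (piN x) = 0 ∧ sgnR (piN r) x = 0) ||
            decide (sgnR r (piN x) ≠ 0 ∧ sgnR (piN r) x ≠ 0))
      else
        decide (sgnR r (piN x) = 0 ∧ sgnR (piN r) x = 0 ∧
          tgtR (piN r) (piN x) = piN (tgtR r x) ∧
          sgnR (piN r) (piN x) * cs r * cs x = sgnR r x * cs (tgtR r x) ∧
          sgnR (piN r) (tgtR r x) = 0 ∧ piN r ≠ 71 - tgtR r x ∧
          sgnR (piN x) (tgtR r x) = 0 ∧ piN x ≠ 71 - tgtR r x)

set_option maxRecDepth 10000 in
theorem chkPair_all : ∀ r ∈ List.range 72, ∀ x ∈ List.range 72, chkPair r x = true := by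
  decide +kernel

theorem apart_spec {r x : ℕ} (h : apart r x = true) :
    x ≠ 71 - r ∧ piN x ≠ 71 - r ∧ x ≠ 71 - piN r ∧ x ≠ r ∧ x ≠ piN r := by
  simp only [apart, Bool.and_eq_true, Bool.not_eq_true', ← Bool.not_eq_true, Nat.beq_eq] at h
  obtain ⟨⟨⟨⟨h1, h2⟩, h3⟩, h4⟩, h5⟩ := h
  exact ⟨h1, h2, h3, h4, h5⟩

theorem chk_neg : ∀ r ∈ List.range 72, piN (71 - r) = 71 - piN r ∧ 71 - r < 72 := by decide +kernel

theorem chk_LS_all : ∀ r ∈ List.range 72, ∀ x ∈ List.range 72,
    piN r = r → piN x ≠ x → sgnR r x ≠ 0 → sgnR (piN x) (tgtR r x) ≠ 0 →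
    piN (tgtR r x) ≠ 71 - tgtR (piN x) (tgtR r x) ∧
      sgnR (tgtR (piN x) (tgtR r x)) (piN (tgtR r x)) = 0 := by
  decide +kernel

theorem chk_LS {r x : ℕ} (hr : r < 72) (hx : x < 72) :
    piN r = r → piN x ≠ x → sgnR r x ≠ 0 → sgnR (piN x) (tgtR r x) ≠ 0 →
    piN (tgtR r x) ≠ 71 - tgtR (piN x) (tgtR r x) ∧
      sgnR (tgtR (piN x) (tgtR r x)) (piN (tgtR r x)) = 0 :=
  chk_LS_all r (List.mem_range.2 hr) x (List.mem_range.2 hx)

theorem gassoc {G : Type*} [Group G] (a b c : G) : a * b * c = a * (b * c) := mul_assoc a b c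

variable {K : Type*} [Field K] [Fintype K] {q : ℕ} (C : E6Tw.Ctx K q)
include C

theorem opp_spec {r x : ℕ} (hr : r < 72) (hx : x < 72) (h : apart r x = true) :
    x ≠ 71 - r ∧ piN x ≠ 71 - r ∧ x ≠ 71 - piN r ∧ piN x ≠ 71 - piN r := by
  obtain ⟨h1, h2, h3, -, -⟩ := apart_spec h
  refine ⟨h1, h2, h3, fun e => h1 ?_⟩
  obtain ⟨-, e2, -⟩ := map_spec hx
  obtain ⟨n1, -⟩ := chk_neg r (List.mem_range.2 hr)
  obtain ⟨n2, nlt⟩ := chk_neg r (List.mem_range.2 hr)
  obtain ⟨-, e3, -⟩ := map_spec nlt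
  rw [← e2, e, ← n1, e3]

/-- Orbits without a commutator term commute. -/
theorem swap_zero {r x : ℕ} (hr : r < 72) (hx : x < 72) (ha : apart r x = true)
    (h0 : sgnR r x = 0 ∧ sgnR r (piN x) = 0 ∧ sgnR (piN r) x = 0 ∧ sgnR (piN r) (piN x) = 0)
    (t u : K) : y C x u * y C r t = y C r t * y C x u := by
  obtain ⟨hr', -⟩ := map_spec hr
  obtain ⟨hx', -⟩ := map_spec hx
  obtain ⟨o1, o2, o3, o4⟩ := opp_spec C hr hx ha
  obtain ⟨a1, a2, a3, a4⟩ := h0
  have c1 : ∀ v w : K, Commute (xg x w) (xg r v) := fun v w => xg_comm hr hx o1 a1 v w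
  have c2 : ∀ v w : K, Commute (xg (piN x) w) (xg r v) := fun v w => xg_comm hr hx' o2 a2 v w
  have c3 : ∀ v w : K, Commute (xg x w) (xg (piN r) v) := fun v w => xg_comm hr' hx o3 a3 v w
  have c4 : ∀ v w : K, Commute (xg (piN x) w) (xg (piN r) v) := fun v w =>
    xg_comm hr' hx' o4 a4 v w
  refine lift_eq C (A := yA C x u * yA C r t) (B := yA C r t * yA C x u) ?_ ?_ ?_
  · simp [coe_y C hr, coe_y C hx]
  · simp [coe_y C hr, coe_y C hx]
  · have key : ∀ {g : chevE6.group K}, (∀ w, Commute (xg x w) g) →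
        (∀ w, Commute (xg (piN x) w) g) → Commute (yA C x u) g := fun {g} k1 k2 => by
      unfold yA; split
      · exact k1 _
      · exact (k1 _).mul_left (k2 _)
    show Commute _ _
    unfold yA
    by_cases h : piN r = r
    · rw [if_pos h]; exact key (c1 _) (c2 _)
    · rw [if_neg h]; exact (key (c1 _) (c2 _)).mul_right (key (c3 _) (c4 _))

theorem chk_of {r x : ℕ} (hr : r < 72) (hx : x < 72) : chkPair r x = true :=
  chkPair_all r (List.mem_range.2 hr) x (List.mem_range.2 hx)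

theorem tgt_lt {r x : ℕ} (hr : r < 72) (hx : x < 72) (hn : x ≠ 71 - r) (hs : sgnR r x ≠ 0) :
    tgtR r x < 72 := by
  rcases term_cases hr hx hn with ⟨-, h⟩ | ⟨-, -, h, -⟩
  · exact absurd h hs
  · exact h

/-- Two fixed roots. -/
theorem swap_LL {r x : ℕ} (hr : r < 72) (hx : x < 72) (ha : apart r x = true)
    (pr : piN r = r) (px : piN x = x) (t u : K) : y C x u * y C r t =
    y C r t * (y C x u *
      y C (tgtR r x) (θ C * (-((sgnR r x : K) * tr C t * tr C u)))) := by
  obtain ⟨o1, -⟩ := opp_spec C hr hx ha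
  have hk := chk_of C hr hx
  simp only [chkPair, ha, px, pr, Bool.not_true, Bool.false_or, if_true, Bool.or_eq_true,
    decide_eq_true_eq] at hk
  rcases hk with h0 | hz
  · rw [h0, Int.cast_zero, zero_mul, zero_mul, neg_zero, mul_zero, y_zero, mul_one]
    exact swap_zero C hr hx ha (by rw [pr, px]; exact ⟨h0, h0, h0, h0⟩) t u
  by_cases h0 : sgnR r x = 0
  · rw [h0, Int.cast_zero, zero_mul, zero_mul, neg_zero, mul_zero, y_zero, mul_one]
    exact swap_zero C hr hx ha (by rw [pr, px]; exact ⟨h0, h0, h0, h0⟩) t u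
  have hlt := tgt_lt C hr hx o1 h0
  refine lift_eq C (A := xg x (tr C u) * xg r (tr C t))
    (B := xg r (tr C t) * (xg x (tr C u) * xg (tgtR r x) (-((sgnR r x : K) * tr C t * tr C u))))
    ?_ ?_ (xg_swap hr hx o1 _ _)
  · simp [coe_y C hr, coe_y C hx, yA_long C pr, yA_long C px, tr_apply]
  · have hv : C.φ (-((sgnR r x : K) * tr C t * tr C u)) = -((sgnR r x : K) * tr C t * tr C u) := by
      rw [map_neg, map_mul, map_mul, map_intCast, φ_tr C, φ_tr C]
    have e : yA C (tgtR r x) (θ C * (-((sgnR r x : K) * tr C t * tr C u))) =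
        xg (tgtR r x) (-((sgnR r x : K) * tr C t * tr C u)) := by
      rw [yA_long C hz, ← tr_apply, tr_θ_mul C hv]
    simp [coe_y C hr, coe_y C hx, coe_y C hlt, yA_long C pr, yA_long C px, ← tr_apply, e,
      -neg_mul, -mul_neg]

/-- A fixed root and a pair. -/
theorem swap_LS {r x : ℕ} (hr : r < 72) (hx : x < 72) (ha : apart r x = true)
    (pr : piN r = r) (px : piN x ≠ x) (t u : K) : y C x u * y C r t =
    y C r t * (y C x u * (y C (tgtR r x) (-((sgnR r x : K) * tr C t * u)) *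
      y C (tgtR (piN x) (tgtR r x)) (θ C * ((sgnR (piN x) (tgtR r x) : K) * (sgnR r x : K) *
        (cs x : K) * tr C t * (u * C.φ u))))) := by
  obtain ⟨o1, o2, -, -⟩ := opp_spec C hr hx ha
  obtain ⟨hx', hxx, hcx, -⟩ := map_spec hx
  have hk := chk_of C hr hx
  simp only [chkPair, ha, px, pr, Bool.not_true, Bool.false_or, if_true, if_false] at hk
  by_cases h0 : sgnR r x = 0
  · rw [if_pos h0, decide_eq_true_eq] at hk
    simp only [h0, Int.cast_zero, zero_mul, mul_zero, neg_zero, y_zero, mul_one]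
    exact swap_zero C hr hx ha (by rw [pr]; exact ⟨h0, hk, h0, hk⟩) t u
  rw [if_neg h0, decide_eq_true_eq] at hk
  obtain ⟨hz, hz', hs, hc0, hcn, hlt⟩ := hk
  set T := tr C t
  set u' := (cs x : K) * C.φ u
  set w := -((sgnR r x : K) * T * u)
  set W := (sgnR (piN x) (tgtR r x) : K) * (sgnR r x : K) * (cs x : K) * T * (u * C.φ u)
  have hW : C.φ W = W := by
    simp only [W, T, map_mul, map_intCast, φ_tr C, φφ C]; ring
  have ew : -((sgnR r (piN x) : K) * T * u') = (cs (tgtR r x) : K) * C.φ w := by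
    rw [map_neg, map_mul, map_mul, map_intCast, φ_tr C]
    have hs' : (sgnR r (piN x) : K) * (cs x : K) = (sgnR r x : K) * (cs (tgtR r x) : K) := by
      exact_mod_cast congrArg (fun z : ℤ => (z : K)) hs
    simp only [u']
    linear_combination -(T * C.φ u) * hs'
  have eW : -((sgnR (piN x) (tgtR r x) : K) * u' * w) = W := by
    simp only [w, W, u']; ring
  have k1 := xg_swap hx' hlt (fun e => hcn (by omega)) u' w
  rw [eW] at k1
  have eQ : (y C (tgtR (piN x) (tgtR r x)) (θ C * W) : GL chevE6.Idx K) =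
      (xg (tgtR (piN x) (tgtR r x)) W : chevE6.group K) := by
    by_cases hq : sgnR (piN x) (tgtR r x) = 0
    · simp [W, hq, y_zero, xg_zero]
    · have hlt2 := tgt_lt C hx' hlt (fun e => hcn (by omega)) hq
      have hzz := hc0.resolve_left hq
      rw [coe_y C hlt2, yA_long C hzz, ← tr_apply C (θ C * W), tr_θ_mul C hW]
  refine lift_eq C (A := yA C x u * xg r T)
    (B := xg r T * (yA C x u * (yA C (tgtR r x) w * xg (tgtR (piN x) (tgtR r x)) W))) ?_ ?_ ?_
  · simp [coe_y C hr, coe_y C hx, yA_long C pr, T, tr_apply]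
  · simp [coe_y C hr, coe_y C hx, coe_y C hlt, yA_long C pr, T, tr_apply, eQ]
  · obtain ⟨hz1, -, -, -, -, -, hzn, hz0, -⟩ := map_spec hlt
    rw [yA_short C px, yA_short C hz, gassoc (xg x u), xg_swap hr hx' o2, hz', ew,
      ← gassoc (xg x u), xg_swap hr hx o1]
    simp only [gassoc]
    congr 2
    rw [← gassoc _ (xg (piN x) u'), k1]
    simp only [gassoc]
    congr 1
    have k3 : Commute (xg (tgtR (piN x) (tgtR r x)) W)
        (xg (piN (tgtR r x)) ((cs (tgtR r x) : K) * C.φ w)) := by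
      by_cases hq : sgnR (piN x) (tgtR r x) = 0
      · simp [W, hq, xg_zero]
      · exact (xg_comm (tgt_lt C hx' hlt (fun e => hcn (by omega)) hq) hz1
          (chk_LS hr hx pr px h0 hq).1 (chk_LS hr hx pr px h0 hq).2 W _).symm
    congr 1

/-- Two pairs. -/
theorem swap_SS {r x : ℕ} (hr : r < 72) (hx : x < 72) (ha : apart r x = true)
    (pr : piN r ≠ r) (px : piN x ≠ x) (hs0 : sgnR r x ≠ 0) (t u : K) : y C x u * y C r t =
    y C r t * (y C x u * y C (tgtR r x) (-((sgnR r x : K) * t * u))) := by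
  obtain ⟨o1, o2, o3, o4⟩ := opp_spec C hr hx ha
  obtain ⟨hx', -⟩ := map_spec hx
  obtain ⟨hr', -⟩ := map_spec hr
  have hk := chk_of C hr hx
  simp only [chkPair, ha, px, pr, hs0, Bool.not_true, Bool.false_or, if_false,
    decide_eq_true_eq] at hk
  obtain ⟨s12, s21, hz', hs, c1, c1n, c2, c2n⟩ := hk
  have hlt := tgt_lt C hr hx o1 hs0
  set w := -((sgnR r x : K) * t * u)
  have ew : -((sgnR (piN r) (piN x) : K) * ((cs r : K) * C.φ t) * ((cs x : K) * C.φ u)) =
      (cs (tgtR r x) : K) * C.φ w := by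
    rw [map_neg, map_mul, map_mul, map_intCast]
    have hs' : (sgnR (piN r) (piN x) : K) * (cs r : K) * (cs x : K) =
        (sgnR r x : K) * (cs (tgtR r x) : K) := by
      exact_mod_cast congrArg (fun z : ℤ => (z : K)) hs
    linear_combination -(C.φ t * C.φ u) * hs'
  refine lift_eq C (A := yA C x u * yA C r t)
    (B := yA C r t * (yA C x u * yA C (tgtR r x) w)) ?_ ?_ ?_
  · simp [coe_y C hr, coe_y C hx]
  · simp [coe_y C hr, coe_y C hx, coe_y C hlt]
  · rw [yA_short C px, yA_short C pr]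
    set u' := (cs x : K) * C.φ u
    set t' := (cs r : K) * C.φ t
    have e1 : xg x u * xg (piN x) u' * (xg r t * xg (piN r) t') =
        xg r t * xg (piN r) t' *
          (xg x u * xg (piN x) u' * (xg (tgtR r x) w * xg (tgtR (piN r) (piN x))
            (-((sgnR (piN r) (piN x) : K) * t' * u')))) := by
      rw [mul_assoc (xg x u), ← mul_assoc (xg (piN x) u'), xg_comm hr hx' o2 s12,
        mul_assoc (xg r t), xg_swap hr' hx' o4, ← mul_assoc (xg x u), xg_swap hr hx o1]
      have k1 := xg_comm hr' hlt (fun e => c1n (by omega)) c1 t' w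
      have k2 := xg_comm hx' hlt (fun e => c2n (by omega)) c2 u' w
      have k3 := xg_comm hr' hx o3 s21 t' u
      simp only [gassoc]
      congr 1
      rw [← mul_assoc (xg (tgtR r x) w) (xg (piN r) t'), k1]
      simp only [gassoc]
      rw [← mul_assoc (xg x u) (xg (piN r) t'), k3]
      simp only [gassoc]
      congr 2
      rw [← mul_assoc (xg (tgtR r x) w), k2]
      simp only [gassoc]
    rw [e1, hz', ew]
    congr 2
    unfold yA
    split
    · next hzz =>
        rw [hzz, (map_spec hlt).2.2.2.2.1 hzz, Int.cast_one, one_mul, xg_add]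
    · rfl

/-- A pair and a fixed root. -/
theorem swap_SL {r x : ℕ} (hr : r < 72) (hx : x < 72) (ha : apart r x = true)
    (pr : piN r ≠ r) (px : piN x = x) (t u : K) : y C x u * y C r t =
    y C r t * (y C x u * (y C (tgtR r x) (-((sgnR r x : K) * t * tr C u)) *
      y C (tgtR (piN r) (tgtR r x)) (θ C * ((sgnR (piN r) (tgtR r x) : K) * (sgnR r x : K) *
        (cs r : K) * (t * C.φ t) * tr C u)))) := by
  obtain ⟨o1, -, o3, -⟩ := opp_spec C hr hx ha
  obtain ⟨hr', -⟩ := map_spec hr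
  have hk := chk_of C hr hx
  simp only [chkPair, ha, px, pr, Bool.not_true, Bool.false_or, if_true, if_false] at hk
  by_cases h0 : sgnR r x = 0
  · rw [if_pos h0, decide_eq_true_eq] at hk
    simp only [h0, Int.cast_zero, zero_mul, mul_zero, neg_zero, y_zero, mul_one]
    exact swap_zero C hr hx ha (by rw [px]; exact ⟨h0, h0, hk, hk⟩) t u
  rw [if_neg h0, decide_eq_true_eq] at hk
  obtain ⟨hz, hz', hs, hq0, hqn, hzz⟩ := hk
  have hlt := tgt_lt C hr hx o1 h0
  have hlt2 := tgt_lt C hr' hlt (by omega) hq0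
  obtain ⟨hz1, hz2, hz3, -, -, -, hzn, hz0, -⟩ := map_spec hlt
  set U := tr C u
  set t' := (cs r : K) * C.φ t
  set w := -((sgnR r x : K) * t * U)
  set W := (sgnR (piN r) (tgtR r x) : K) * (sgnR r x : K) * (cs r : K) * (t * C.φ t) * U
  have hW : C.φ W = W := by
    simp only [W, U, map_mul, map_intCast, φ_tr C, φφ C]; ring
  have ew : -((sgnR (piN r) x : K) * t' * U) = (cs (tgtR r x) : K) * C.φ w := by
    rw [map_neg, map_mul, map_mul, map_intCast, φ_tr C]
    have hs' : (sgnR (piN r) x : K) * (cs r : K) =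
        (sgnR r x : K) * (cs (tgtR r x) : K) := by
      exact_mod_cast congrArg (fun z : ℤ => (z : K)) hs
    simp only [t']
    linear_combination -(C.φ t * U) * hs'
  have eW : -((sgnR (piN r) (tgtR r x) : K) * t' * w) = W := by
    simp only [w, W, t']; ring
  refine lift_eq C (A := xg x U * yA C r t)
    (B := yA C r t * (xg x U * (yA C (tgtR r x) w *
      yA C (tgtR (piN r) (tgtR r x)) (θ C * W)))) ?_ ?_ ?_
  · simp [coe_y C hr, coe_y C hx, yA_long C px, U, tr_apply]
  · simp [coe_y C hr, coe_y C hx, coe_y C hlt, coe_y C hlt2, yA_long C px, U, tr_apply]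
  · rw [yA_short C pr, yA_short C hz, yA_long C hzz, ← tr_apply C (θ C * W), tr_θ_mul C hW,
      ← mul_assoc (xg x U), xg_swap hr hx o1, ← hz', ← ew]
    have k1 := xg_swap hr' hlt (fun e => hqn (by omega)) t' w
    rw [eW] at k1
    have k2 := xg_swap hr' hx o3 t' U
    have k3 := xg_comm hlt hz1 hzn hz0 w (-((sgnR (piN r) x : K) * t' * U))
    rw [← hz'] at k3
    simp only [gassoc]
    congr 1
    rw [k1, ← mul_assoc (xg x U) (xg (piN r) t'), k2]
    simp only [gassoc]
    congr 2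
    rw [← mul_assoc _ (xg (tgtR r x) w), k3]
    simp only [gassoc]

end CfsgLib.E6TwMinDeg
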